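import Cfsg.Agent.Lib.Lie.RankOneClass.Ident.Line

/-!
Owner: helper20 (slice H). When some nontrivial element centralising the involutions of `G_a` has
no centraliser in `Q` outside them, the coordinates can be scaled so that `t z₁ t = z₁ t z₁`.
-/

set_option autoImplicit false
set_option linter.all false

namespace CfsgLib.Lie.RankOneClass.Ident

open MulAction CfsgLib.Lie.RankOne

variable {G Ω : Type*} [Group G] [MulAction G Ω] [Finite G] [FaithfulSMul G Ω] {a : Ω} {t : G}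
  {Q : Subgroup G} {F : Type} [Field F] [Fintype F]

local notation "𝔇" => ((stabilizer G a ⊓ stabilizer G (t • a)) : Subgroup G)
local notation "𝔍" => Cfsg.involutionsIn (stabilizer G a : Set G)

/-- Rescale the coordinates so that a given involution gets coordinate one. -/
theorem exists_rescale (C : Coord a t F) {s : G} (hs : s ∈ 𝔍)
    (hv : ∀ d ∈ 𝔇, (d ∈ Vg a t ↔ d * s = s * d)) : ∃ C' : Coord a t F, C'.z 1 = s := by
  obtain ⟨σ0, hσ⟩ := C.z_surj s hs
  have h0 : σ0 ≠ 0 := by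
    rintro rfl
    exact hs.2.1 (hσ.symm.trans C.z_zero)
  refine ⟨{
    z := fun x => C.z (σ0 * x)
    z_add := fun x y => by rw [mul_add, C.z_add]
    z_inj := fun x y h => mul_left_cancel₀ h0 (C.z_inj h)
    z_mem := fun x hx => C.z_mem _ (mul_ne_zero h0 hx)
    z_surj := fun g hg => by
      obtain ⟨x, hx⟩ := C.z_surj g hg
      exact ⟨σ0⁻¹ * x, by rw [mul_inv_cancel_left₀ h0, hx]⟩
    k := C.k
    k_mem := C.k_mem
    k_surj := C.k_surj
    k_mul := C.k_mul
    k_conj := fun l x => by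
      show C.k l * C.z (σ0 * x) * (C.k l)⁻¹ = C.z (σ0 * ((l : F) * x))
      rw [C.k_conj, mul_left_comm]
    aut := C.aut
    aut_conj := fun h => by
      obtain ⟨m, hm⟩ := C.aut_conj h
      refine ⟨Units.mk0 ((m : F) * C.aut h σ0 / σ0) (div_ne_zero (mul_ne_zero m.ne_zero
        ((map_ne_zero (C.aut h)).2 h0)) h0), fun x => ?_⟩
      show (h : G) * C.z (σ0 * x) * (h : G)⁻¹ = _
      rw [hm, map_mul, Units.val_mk0]
      show _ = C.z (σ0 * _)
      congr 1
      field_simp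
    vee := fun d hd => by
      show _ ↔ d * C.z (σ0 * 1) = C.z (σ0 * 1) * d
      rw [mul_one, hσ]
      exact hv d hd }, ?_⟩
  show C.z (σ0 * 1) = s
  rw [mul_one, hσ]

/-- Coordinates with `t z₁ t = z₁ t z₁`. -/
theorem exists_lineData (hS : Cfsg.IsRankOneSetup G Ω a t Q)
    (h2 : ∃ x y : G, x ≠ 1 ∧ y ≠ 1 ∧ x ≠ y ∧ x * x = 1 ∧ y * y = 1 ∧ x * y = y * x)
    (hF : Nat.card F = qq G a) {w : G} (hw : w ∈ Wg a t) (hw1 : w ≠ 1)
    (hC : ∀ y ∈ Q, w * y = y * w → y = 1 ∨ y ∈ 𝔍) :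
    Nonempty (LineData G Ω a t Q F) := by
  obtain ⟨C0⟩ := exists_coord hS h2 F hF
  obtain ⟨s, r, hs, hr, he, hv⟩ := exists_s0 hS
  have hwD : w ∈ 𝔇 := (mem_Wg.1 hw).1
  have hwt : w * t = t * w := (mem_Vg.1 (Wg_le_Vg hS hw)).2
  have hws : w * s = s * w := (mem_Wg.1 hw).2 s hs
  have he' : t * s * t = (w * r * w⁻¹)⁻¹ * t * (w * r * w⁻¹) := by
    have e1 : t * s * t = w * (t * s * t) * w⁻¹ := by
      rw [eq_mul_inv_iff_mul_eq]
      calc t * s * t * w = t * s * (t * w) := by rw [mul_assoc]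
        _ = t * (s * w) * t := by rw [← hwt]; group
        _ = (t * w) * s * t := by rw [← hws]; group
        _ = w * (t * s * t) := by rw [← hwt]; group
    rw [e1, he]
    calc w * (r⁻¹ * t * r) * w⁻¹ = (w * r⁻¹ * w⁻¹) * (w * t) * (r * w⁻¹) := by group
      _ = _ := by rw [hwt]; group
  have hrr : w * r * w⁻¹ = r := congrArg Prod.snd ((structure_equation hS).unique
    (y₁ := (s, w * r * w⁻¹)) (y₂ := (s, r)) ⟨hs, Q_conj hS hwD hr, he'⟩ ⟨hs, hr, he⟩)
  have hrJ : r ∈ 𝔍 := by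
    refine (hC r hr (mul_inv_eq_iff_eq_mul.1 hrr)).resolve_left ?_
    rintro rfl
    rw [inv_one, one_mul, mul_one] at he
    have hts : t * s = 1 := mul_right_cancel (b := t) (by rw [he, one_mul])
    exact hS.not_mem (by
      show t ∈ stabilizer G a
      rw [eq_inv_of_mul_eq_one_left hts]; exact inv_mem hs.1)
  obtain ⟨C, hC1⟩ := exists_rescale C0 hs hv
  obtain ⟨ρ, hρ⟩ := C.z_surj r hrJ
  have hρ0 : ρ ≠ 0 := by
    rintro rfl
    exact hrJ.2.1 (hρ.symm.trans C.z_zero)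
  have hri : r⁻¹ = r := inv_eq_of_mul_eq_one_right hrJ.2.2
  rw [← hC1, hri, ← hρ] at he
  suffices h1 : ρ = 1 by
    subst h1
    exact ⟨⟨hS, h2, C, he⟩⟩
  set k := C.k (Units.mk0 ρ hρ0) with hk
  have hkK := C.k_mem (Units.mk0 ρ hρ0)
  have htk : ∀ g, g ∈ Cfsg.invertedBy (stabilizer G a ⊓ stabilizer G (t • a)) t →
      t * g = g⁻¹ * t := fun g hg => by
    rw [← t_conj_inv hS hg, mul_assoc, hS.mul_self, mul_one]
  have hkz : ∀ x : F, k * C.z x = C.z (ρ * x) * k := fun x => by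
    rw [show ρ * x = (Units.mk0 ρ hρ0 : F) * x from rfl, ← C.k_conj, inv_mul_cancel_right]
  have hzz : C.z ρ * C.z ρ = 1 := by rw [hρ]; exact hrJ.2.2
  have hkk : k * k ∈ Cfsg.invertedBy (stabilizer G a ⊓ stabilizer G (t • a)) t := by
    rw [hk, ← C.k_mul]; exact C.k_mem _
  have hkt : k⁻¹ * t = t * k := (htk k hkK).symm
  have h1' : k⁻¹ * C.z ρ = C.z 1 * k⁻¹ := by
    have := hkz 1
    rw [mul_one] at this
    calc k⁻¹ * C.z ρ = k⁻¹ * (C.z ρ * k) * k⁻¹ := by group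
      _ = _ := by rw [← this]; group
  -- two expressions for `t z_ρ t`
  have e1 : t * C.z ρ * t = C.z ρ * 1 * t * C.z 1 := by
    have h3 : C.z ρ * t * C.z 1 * t * t = C.z ρ * t * C.z 1 := by
      rw [mul_assoc, hS.mul_self, mul_one]
    calc t * C.z ρ * t = C.z ρ * (C.z ρ * t * C.z ρ) * t := by
          rw [← mul_assoc, ← mul_assoc, hzz, one_mul]
      _ = C.z ρ * t * C.z 1 * t * t := by rw [← he]; group
      _ = C.z ρ * 1 * t * C.z 1 := by rw [h3, mul_one]
  have e2 : t * C.z ρ * t = C.z 1 * (k * k)⁻¹ * t * C.z 1 := by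
    have hl : k⁻¹ * (t * C.z 1 * t) * k = t * C.z ρ * t := by
      have := hkz 1
      rw [mul_one] at this
      calc k⁻¹ * (t * C.z 1 * t) * k = (k⁻¹ * t) * C.z 1 * (t * k) := by group
        _ = (t * k) * C.z 1 * (k⁻¹ * t) := by rw [hkt]
        _ = t * (k * C.z 1) * k⁻¹ * t := by group
        _ = t * C.z ρ * t := by rw [this]; group
    have hzk : C.z ρ * k = k * C.z 1 := by rw [hkz, mul_one]
    rw [← hl, he]
    calc k⁻¹ * (C.z ρ * t * C.z ρ) * k = (k⁻¹ * C.z ρ) * t * (C.z ρ * k) := by group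
      _ = C.z 1 * (k⁻¹ * t) * (k * C.z 1) := by rw [h1', hzk]; group
      _ = C.z 1 * (t * (k * k)) * C.z 1 := by rw [hkt]; group
      _ = _ := by rw [htk _ hkk]; group
  have h := triple_unique hS (C.z_mem_Q hS ρ) (C.z_mem_Q hS 1) (one_mem _) (inv_mem hkk.1)
    (C.z_mem_Q hS 1) (C.z_mem_Q hS 1) (e1.symm.trans e2)
  exact C.z_inj h.1

end CfsgLib.Lie.RankOneClass.Ident
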