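import Cfsg.Agent.Lib.Lie.RankOneClass.Ident.Sum

/-!
Owner: helper20 (slice H). Every element of `Q` acts as a translation of the unital, and `t` as the
swap.
-/

set_option autoImplicit false
set_option linter.all false

namespace CfsgLib.Lie.RankOneClass.Ident

open MulAction CfsgLib.Lie.RankOne Matrix CfsgLib.Classical.Herm
open scoped Pointwise

variable {L : Type} [Field L] [Fintype L] [CharP L 2] {σ : L →+* L} [Fintype (fixedSub σ)]
  {G Ω : Type*} [Group G] [MulAction G Ω] {a : Ω} {t : G} {Q : Subgroup G}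
  [Finite G] [FaithfulSMul G Ω]

/-- The hermitian product of two labels. -/
def hp (σ : L →+* L) (z z' : L) : L := z * σ z' + σ z * z'

namespace UData

variable (U : UData G Ω a t Q L σ)

include U

omit U in
theorem onU_trS (U : UData G Ω a t Q L σ) {s p : L × L} (hs : OnU σ s) (hp : OnU σ p) :
    OnU σ (trS σ s p) := by
  unfold OnU at *
  simp only [trS, map_add, map_mul, U.hσ.invol]
  linear_combination hp + hs + (σ s.2 * p.2 + s.2 * σ p.2) * two_L (L := L)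

theorem crd_smul {x : G} (hx : x ∈ Q) {p : L × L} (hp : OnU σ p) :
    ∃ X, OnU σ (X, U.lab x + p.2) ∧ x • U.Phi p = U.Phi (X, U.lab x + p.2) := by
  obtain ⟨y, hy, hyb⟩ := U.exists_Q p hp
  have h := U.smul_b_eq (mul_mem hx hy)
  have e : (U.crd ((x * y) • (t • a))).2 = U.lab x + p.2 := by
    show U.lab (x * y) = _
    rw [U.lab_mul hx hy]
    congr 1
    rw [lab, hyb, U.crd_Phi hp]
  refine ⟨(U.crd ((x * y) • (t • a))).1, ?_, ?_⟩
  · rw [← e]; exact h.1
  · rw [← e, h.2, mul_smul, hyb]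

/-- The coordinates of `x • t • a`. -/
noncomputable def sv (x : G) : L × L := U.crd (x • (t • a))

theorem sv_spec {x : G} (hx : x ∈ Q) :
    OnU σ (U.sv x) ∧ U.Phi (U.sv x) = x • (t • a) ∧ (U.sv x).2 = U.lab x :=
  ⟨(U.smul_b_eq hx).1, (U.smul_b_eq hx).2, rfl⟩

/-- `x` acts as the translation at the point `p`. -/
def Acts (x : G) (p : L × L) : Prop := x • U.Phi p = U.Phi (trS σ (U.sv x) p)

theorem acts_line {x : G} (hx : x ∈ Q) {p : L × L} (hp : OnU σ p) (hz : p.2 = 0) : U.Acts x p := by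
  obtain ⟨hs, he, hs2⟩ := U.sv_spec hx
  unfold Acts
  set u : fixedSub σ := ⟨p.1, hp.fst_fix hz⟩ with hu
  conv_lhs => rw [U.Phi_zero hz (hp.fst_fix hz), ← mul_smul x, ← hu, U.z_comm hx, mul_smul, ← he,
    U.z_Phi u hs]
  congr 1
  simp [trS, hz, add_comm, hu]

theorem acts_lab_zero {x : G} (hx : x ∈ Q) (h0 : U.lab x = 0) {p : L × L} (hp : OnU σ p) :
    U.Acts x p := by
  obtain ⟨hs, he, hs2⟩ := U.sv_spec hx
  obtain ⟨u, hu⟩ := (U.lab_eq_iff (one_mem Q) hx).1 (U.lab_one.trans h0.symm)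
  rw [mul_one] at hu
  have hsv : U.sv x = ((u : L), 0) := by
    rw [sv, hu, ← U.Phi_line, U.crd_Phi]
    show (u : L) + σ u + 0 * σ 0 = 0
    rw [sigma_coe, zero_mul, add_zero, add_self_L]
  unfold Acts
  rw [hsv, hu, U.z_Phi u hp]
  congr 1
  simp [trS]

theorem acts_nonparallel {x : G} (hx : x ∈ Q) {p : L × L} (hp' : OnU σ p)
    (hD : hp σ (U.lab x) p.2 ≠ 0) : U.Acts x p := by
  obtain ⟨hs, he, hs2⟩ := U.sv_spec hx
  set z0 := U.lab x with hz0def
  set z := p.2 with hzdef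
  set X0 := (U.sv x).1 with hX0
  set T := hp σ z0 z with hT
  have hTf : σ T = T := by
    rw [hT]; unfold hp; rw [map_add, map_mul, map_mul, U.hσ.invol, U.hσ.invol]; ring
  have hz0 : z0 ≠ 0 := fun h => hD (by rw [hT]; simp [hp, h])
  have hz : z ≠ 0 := fun h => hD (by rw [hT]; simp [hp, h])
  set z1 := (z * σ z * z0 + z0 * σ z0 * z) / T with hz1
  have hσ1 : σ z1 = (σ z * z * σ z0 + σ z0 * z0 * σ z) / T := by
    rw [hz1, map_div₀, hTf, map_add, map_mul, map_mul, map_mul, map_mul, U.hσ.invol, U.hσ.invol]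
  have e1 : z0 * σ z1 + σ z0 * z1 = z0 * σ z0 := by
    rw [hσ1, hz1]
    field_simp
    rw [hT]; unfold hp
    linear_combination (σ z0 * z * σ z) * two_L (L := L)
  have e2 : z * σ z1 + σ z * z1 = z * σ z := by
    rw [hσ1, hz1]
    field_simp
    rw [hT]; unfold hp
    linear_combination (z0 * σ z0 * σ z) * two_L (L := L)
  have hz1ne : z1 ≠ 0 := fun h => by
    rw [h, map_zero, mul_zero, mul_zero, add_zero] at e1
    exact mul_ne_zero hz0 ((map_ne_zero σ).2 hz0) e1.symm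
  set z1' := z1 + z0 with hz1'
  have hn' : z1' * σ z1' = z1 * σ z1 := by
    rw [hz1', map_add]
    linear_combination e1 + (z0 * σ z0) * two_L (L := L)
  have hz1'ne : z1' ≠ 0 := fun h => by
    rw [h, zero_mul] at hn'
    exact mul_ne_zero hz1ne ((map_ne_zero σ).2 hz1ne) hn'.symm
  have hp := hp'
  unfold OnU at hp
  have hs' := hs
  unfold OnU at hs'
  rw [hs2] at hs'
  set s : fixedSub σ := ⟨p.1 + σ z1 * z, by
    refine mem_fixedSub.2 ?_
    rw [map_add, map_mul, U.hσ.invol]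
    linear_combination hp + e2 - (p.1 + σ z1 * z) * two_L (L := L)⟩ with hsdef
  set s' : fixedSub σ := ⟨X0 + s + σ z1' * z0, by
    refine mem_fixedSub.2 ?_
    rw [map_add, map_add, map_mul, U.hσ.invol, sigma_coe, hz1', map_add]
    linear_combination hs' + e1 +
      (-X0 - σ z1 * z0) * two_L (L := L)⟩ with hs'def
  have hrel : U.Rel (U.fib z1) (U.lam (σ z1) s) := by
    have := U.rel_smul (U.part_self hz1ne) (U.D.C.z s)
    rwa [U.z_smul_fib, U.z_smul_lam, zero_add] at this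
  have hrel' : U.Rel (U.fib z1') (U.lam (σ z1') s') := by
    have := U.rel_smul (U.part_self hz1'ne) (U.D.C.z s')
    rwa [U.z_smul_fib, U.z_smul_lam, zero_add] at this
  have hxrel := U.rel_smul hrel x
  obtain ⟨y1, hy1, hly1⟩ := U.exists_lab z1
  rw [← hly1, U.smul_fib hx hy1, U.lab_mul hx hy1, hly1, add_comm, ← hz1'] at hxrel
  have hm : x • U.D.C.z s • (t • a) ∈ U.lam (σ z1') s' := by
    rw [← mul_smul x (U.D.C.z s), U.z_comm hx, mul_smul, ← he, U.z_Phi s hs]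
    refine Or.inr ⟨_, U.onU_shift hs s, hs2.symm ▸ hz0, ?_, rfl⟩
    show X0 + (s : L) = X0 + s + σ z1' * z0 + σ z1' * (U.sv x).2
    rw [hs2]
    linear_combination (-(σ z1' * z0)) * two_L (L := L)
  have heq := U.fib_rel_unique hxrel hrel' (Set.smul_mem_smul_set (Or.inl rfl)) hm
  have hpm : U.Phi p ∈ U.lam (σ z1) s := Or.inr ⟨p, hp', hz, by
    show p.1 = p.1 + σ z1 * z + σ z1 * z
    linear_combination (-(σ z1 * z)) * two_L (L := L), rfl⟩
  have hxp : x • U.Phi p ∈ U.lam (σ z1') s' := heq ▸ Set.smul_mem_smul_set hpm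
  obtain ⟨X, hX, hxX⟩ := U.crd_smul hx hp'
  have hne : z0 + z ≠ 0 := fun h => hD (by
    rw [hT, eq_of_add h]; unfold CfsgLib.Lie.RankOneClass.Ident.hp
    linear_combination (z * σ z) * two_L (L := L))
  unfold Acts
  rcases hxp with h | ⟨p', hp'', hpz, hp1, hpe⟩
  · exfalso
    have : U.Phi (X, z0 + z) ∈ U.D.line := by rw [← hxX, h]; exact Or.inr ⟨s', rfl⟩
    exact hne ((U.Phi_mem_line hX).1 this)
  · have e := U.Phi_inj hp'' hX (hpe.trans hxX)
    rw [← hpe]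
    congr 1
    refine Prod.ext ?_ ?_
    · show p'.1 = p.1 + X0 + σ (U.sv x).2 * z
      rw [hs2, hp1, show p'.2 = z0 + z from congrArg Prod.snd e]
      show X0 + (p.1 + σ z1 * z) + σ z1' * z0 + σ z1' * (z0 + z) = _
      rw [hz1', map_add]
      linear_combination (σ z1 * z + σ z1 * z0 + σ z0 * z0) * two_L (L := L)
    · show p'.2 = z + (U.sv x).2
      rw [hs2, show p'.2 = z0 + z from congrArg Prod.snd e, add_comm]

/-- The defect of the square of an element. -/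
noncomputable def dlt (x : G) : L := (U.sv (x * x)).1 + U.lab x * σ (U.lab x)

theorem sq_eq {x : G} (hx : x ∈ Q) :
    ∃ u : fixedSub σ, (u : L) = U.lab x * σ (U.lab x) + U.dlt x ∧ x * x = U.D.C.z u := by
  obtain ⟨u, hu⟩ := (U.lab_eq_iff (one_mem Q) (mul_mem hx hx)).1 (U.lab_one.trans (U.lab_sq hx).symm)
  rw [mul_one] at hu
  refine ⟨u, ?_, hu⟩
  have : U.sv (x * x) = ((u : L), 0) := by
    rw [sv, hu, ← U.Phi_line, U.crd_Phi]
    show (u : L) + σ u + 0 * σ 0 = 0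
    rw [sigma_coe, zero_mul, add_zero, add_self_L]
  rw [dlt, this]
  linear_combination (-(U.lab x * σ (U.lab x))) * two_L (L := L)

theorem sv_mul {x y : G} (hx : x ∈ Q) (hy : y ∈ Q) (h : U.Acts x (U.sv y)) :
    U.sv (x * y) = trS σ (U.sv x) (U.sv y) := by
  unfold Acts at h
  rw [(U.sv_spec hy).2.1, ← mul_smul] at h
  show U.crd ((x * y) • (t • a)) = _
  rw [h, U.crd_Phi (onU_trS U (U.sv_spec hx).1 (U.sv_spec hy).1)]

theorem dlt_add {x y : G} (hx : x ∈ Q) (hy : y ∈ Q) (hD : hp σ (U.lab x) (U.lab y) ≠ 0) :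
    U.dlt (x * y) = U.dlt x + U.dlt y := by
  have hD' : hp σ (U.lab y) (U.lab x) ≠ 0 := by
    rwa [show hp σ (U.lab y) (U.lab x) = hp σ (U.lab x) (U.lab y) from by unfold hp; ring]
  have h1 := U.sv_mul hx hy (U.acts_nonparallel hx (U.sv_spec hy).1 hD)
  have h2 := U.sv_mul hy hx (U.acts_nonparallel hy (U.sv_spec hx).1 hD')
  set T : fixedSub σ := ⟨hp σ (U.lab x) (U.lab y), mem_fixedSub.2 (by
    unfold hp; rw [map_add, map_mul, map_mul, U.hσ.invol, U.hσ.invol]; ring)⟩ with hT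
  have hcomm : y * x = U.D.C.z T * (x * y) := by
    refine U.Q_ext (mul_mem hy hx) (mul_mem (U.D.C.z_mem_Q U.D.hS T) (mul_mem hx hy)) ?_
    rw [mul_smul (U.D.C.z T), ← (U.sv_spec (mul_mem hy hx)).2.1, ← (U.sv_spec (mul_mem hx hy)).2.1,
      U.z_Phi T (U.sv_spec (mul_mem hx hy)).1, h1, h2]
    congr 1
    refine Prod.ext ?_ ?_
    · show (U.sv x).1 + (U.sv y).1 + σ (U.sv y).2 * (U.sv x).2 =
        (U.sv y).1 + (U.sv x).1 + σ (U.sv x).2 * (U.sv y).2 + hp σ (U.lab x) (U.lab y)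
      rw [(U.sv_spec hx).2.2, (U.sv_spec hy).2.2]
      unfold hp
      linear_combination (-(σ (U.lab x) * U.lab y)) * two_L (L := L)
    · exact add_comm _ _
  obtain ⟨u, hu, hxx⟩ := U.sq_eq hx
  obtain ⟨v, hv, hyy⟩ := U.sq_eq hy
  obtain ⟨w, hw, hww⟩ := U.sq_eq (mul_mem hx hy)
  have e : x * y * (x * y) = U.D.C.z (T + u + v) := by
    calc x * y * (x * y) = x * (y * x) * y := by group
      _ = (x * U.D.C.z T) * x * (y * y) := by rw [hcomm]; group
      _ = U.D.C.z T * (x * x) * (y * y) := by rw [U.z_comm hx T]; group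
      _ = U.D.C.z (T + u + v) := by rw [hxx, hyy, ← U.D.C.z_add, ← U.D.C.z_add]
  have hwe := congrArg Subtype.val (U.D.C.z_inj (hww.symm.trans e))
  rw [U.lab_mul hx hy, map_add] at hw
  simp only [Subfield.coe_add, hT, hp] at hwe
  linear_combination hwe - hw + hu + hv

theorem dlt_congr {x x' : G} (hx : x ∈ Q) (hx' : x' ∈ Q) (h : U.lab x = U.lab x') :
    U.dlt x = U.dlt x' := by
  obtain ⟨u, rfl⟩ := (U.lab_eq_iff hx hx').1 h
  have e : U.D.C.z u * x * (U.D.C.z u * x) = x * x := by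
    calc U.D.C.z u * x * (U.D.C.z u * x) = U.D.C.z u * (x * U.D.C.z u) * x := by group
      _ = (U.D.C.z u * U.D.C.z u) * (x * x) := by rw [U.z_comm hx u]; group
      _ = x * x := by rw [U.D.z_self, one_mul]
  rw [dlt, dlt, e, h]

theorem dlt_zeta {x : G} (hx : x ∈ Q) :
    U.lab (U.w0⁻¹ * x * U.w0) = U.ζ * U.lab x ∧ U.dlt (U.w0⁻¹ * x * U.w0) = U.dlt x := by
  have hw := mem_Wg.1 U.hw0
  have hmem : U.w0⁻¹ * x * U.w0 ∈ Q := by
    have := Q_conj U.D.hS (inv_mem hw.1) hx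
    rwa [inv_inv] at this
  have hl : U.lab (U.w0⁻¹ * x * U.w0) = U.ζ * U.lab x := by
    set p := U.sv x with hp
    have hpo := (U.sv_spec hx).1
    have h' : OnU σ (p.1, p.2 * U.ζ) := by
      unfold OnU at *
      simp only [map_mul]
      linear_combination hpo + (p.2 * σ p.2) * U.zeta_norm
    have e : U.w0⁻¹ • U.Phi p = U.Phi (p.1, p.2 * U.ζ) := by
      rw [inv_smul_eq_iff, U.w0_Phi h']
      congr 1
      exact Prod.ext rfl (by rw [mul_div_cancel_right₀ _ U.zeta_ne])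
    rw [lab, mul_smul, (mem_D.1 hw.1).2, mul_smul, ← (U.sv_spec hx).2.1, ← hp, e, U.crd_Phi h']
    show p.2 * U.ζ = U.ζ * U.lab x
    rw [mul_comm]; rfl
  refine ⟨hl, ?_⟩
  obtain ⟨u, hu, hxx⟩ := U.sq_eq hx
  obtain ⟨v, hv, hyy⟩ := U.sq_eq hmem
  have e : U.w0⁻¹ * x * U.w0 * (U.w0⁻¹ * x * U.w0) = U.D.C.z u := by
    calc U.w0⁻¹ * x * U.w0 * (U.w0⁻¹ * x * U.w0) = U.w0⁻¹ * (x * x) * U.w0 := by group
      _ = U.w0⁻¹ * U.D.C.z u * U.w0 := by rw [hxx]
      _ = U.D.C.z u := by rw [mul_assoc, ← U.D.W_z U.hw0, inv_mul_cancel_left]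
  have hvu := congrArg Subtype.val (U.D.C.z_inj (hyy.symm.trans e))
  rw [hl, map_mul] at hv
  linear_combination hvu - hv + hu - (U.lab x * σ (U.lab x)) * U.zeta_norm

theorem hp_zeta {z : L} (hz : z ≠ 0) : hp σ z (U.ζ * z) ≠ 0 := by
  intro h
  unfold hp at h
  rw [map_mul] at h
  have : z * σ z * (σ U.ζ + U.ζ) = 0 := by linear_combination h
  exact U.hζ (eq_of_add ((mul_eq_zero.1 this).resolve_left (mul_ne_zero hz ((map_ne_zero σ).2 hz))))

theorem dlt_eq_zero {x : G} (hx : x ∈ Q) (h0 : U.lab x ≠ 0) : U.dlt x = 0 := by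
  have hζ1 : U.ζ + 1 ≠ 0 := fun h => U.hζ (eq_of_add h ▸ one_mem _)
  set z := U.lab x / (U.ζ + 1) with hz
  obtain ⟨y, hy, hly⟩ := U.exists_lab z
  obtain ⟨hl, hd⟩ := U.dlt_zeta hy
  have hmem : U.w0⁻¹ * y * U.w0 ∈ Q := by
    have := Q_conj U.D.hS (inv_mem (mem_Wg.1 U.hw0).1) hy
    rwa [inv_inv] at this
  have hz0 : z ≠ 0 := div_ne_zero h0 hζ1
  have h := U.dlt_add hy hmem (by rw [hl, hly]; exact U.hp_zeta hz0)
  rw [hd, add_self_L] at h
  rw [← h]
  refine U.dlt_congr hx (mul_mem hy hmem) ?_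
  rw [U.lab_mul hy hmem, hl, hly, hz]
  field_simp
  ring

theorem acts_same {x : G} (hx : x ∈ Q) (h0 : U.lab x ≠ 0) {p : L × L} (hp : OnU σ p)
    (hz : p.2 = U.lab x) : U.Acts x p := by
  obtain ⟨hs, he, hs2⟩ := U.sv_spec hx
  have hfix : σ (p.1 + (U.sv x).1) = p.1 + (U.sv x).1 := by
    have h1 := hp
    have h2 := hs
    unfold OnU at h1 h2
    rw [hs2] at h2; rw [hz] at h1
    rw [map_add]
    linear_combination h1 + h2 -
      (U.lab x * σ (U.lab x) + p.1 + (U.sv x).1) * two_L (L := L)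
  set u : fixedSub σ := ⟨p.1 + (U.sv x).1, hfix⟩ with hu
  obtain ⟨v, hv, hxx⟩ := U.sq_eq hx
  rw [U.dlt_eq_zero hx h0, add_zero] at hv
  have hpe : U.Phi p = (U.D.C.z u * x) • (t • a) := by
    rw [mul_smul, ← he, U.z_Phi u hs]
    congr 1
    refine Prod.ext ?_ (hz.trans hs2.symm)
    show p.1 = (U.sv x).1 + (p.1 + (U.sv x).1)
    linear_combination (-(U.sv x).1) * two_L (L := L)
  have e : x * (U.D.C.z u * x) = U.D.C.z (u + v) := by
    rw [← mul_assoc, U.z_comm hx u, mul_assoc, hxx, ← U.D.C.z_add]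
  unfold Acts
  rw [hpe, ← mul_smul, e, ← U.Phi_line]
  congr 1
  refine Prod.ext ?_ ?_
  · show ((u + v : fixedSub σ) : L) = p.1 + (U.sv x).1 + σ (U.sv x).2 * p.2
    rw [Subfield.coe_add, hv, hs2, hz, mul_comm (σ _)]
  · show (0 : L) = p.2 + (U.sv x).2
    rw [hs2, hz, add_self_L]

/-- Every element of `Q` acts as a translation. -/
theorem acts {x : G} (hx : x ∈ Q) {p : L × L} (hp' : OnU σ p) : U.Acts x p := by
  by_cases hz : p.2 = 0
  · exact U.acts_line hx hp' hz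
  by_cases h0 : U.lab x = 0
  · exact U.acts_lab_zero hx h0 hp'
  by_cases hD : hp σ (U.lab x) p.2 = 0
  swap
  · exact U.acts_nonparallel hx hp' hD
  by_cases hsame : p.2 = U.lab x
  · exact U.acts_same hx h0 hp' hsame
  -- parallel labels: decompose
  set z0 := U.lab x with hz0
  set w := U.ζ * z0 with hw
  obtain ⟨x2, hx2, hl2⟩ := U.exists_lab w
  set x1 := x * x2⁻¹ with hx1def
  have hx1 : x1 ∈ Q := mul_mem hx (inv_mem hx2)
  have hl1 : U.lab x1 = z0 + w := by rw [hx1def, U.lab_mul hx (inv_mem hx2), U.lab_inv hx2, hl2]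
  have hxe : x1 * x2 = x := inv_mul_cancel_right x x2
  have hz0' : σ z0 ≠ 0 := (map_ne_zero σ).2 h0
  have hr : σ (p.2 / z0) = p.2 / z0 := by
    rw [map_div₀, div_eq_div_iff hz0' h0]
    unfold hp at hD
    linear_combination hD - (σ z0 * p.2) * two_L (L := L)
  set r := p.2 / z0 with hrdef
  have hpr : p.2 = r * z0 := (div_mul_cancel₀ _ h0).symm
  have hr0 : r ≠ 0 := div_ne_zero hz h0
  have hr1 : r + 1 ≠ 0 := fun h => hsame (by rw [hpr, eq_of_add h, one_mul])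
  have hζ : hp σ z0 w ≠ 0 := U.hp_zeta h0
  have hA2 : U.Acts x2 p := U.acts_nonparallel hx2 hp' (by
    rw [hl2, hpr]
    intro h
    apply mul_ne_zero hr0 hζ
    unfold hp at *
    rw [map_mul, hr] at h
    linear_combination h)
  have hA2' : U.Acts x1 (trS σ (U.sv x2) p) := U.acts_nonparallel hx1 (onU_trS U (U.sv_spec hx2).1 hp') (by
    rw [hl1, show (trS σ (U.sv x2) p).2 = p.2 + w from congrArg (p.2 + ·) hl2, hpr]
    intro h
    apply mul_ne_zero hr1 hζ
    unfold hp at *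
    simp only [map_add, map_mul, hr] at h
    linear_combination h - ((r * z0 * σ z0) + (w * σ w)) * two_L (L := L))
  have hA1 : U.Acts x1 (U.sv x2) := U.acts_nonparallel hx1 (U.sv_spec hx2).1 (by
    rw [hl1, show (U.sv x2).2 = w from hl2]
    intro h
    apply hζ
    unfold hp at *
    simp only [map_add] at h
    linear_combination h - (w * σ w) * two_L (L := L))
  have hsv := U.sv_mul hx1 hx2 hA1
  rw [hxe] at hsv
  unfold Acts at hA2 hA2' ⊢
  rw [hsv, ← trS_trS, ← hA2', ← hA2, ← mul_smul, hxe]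

end UData

end CfsgLib.Lie.RankOneClass.Ident
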