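import Cfsg.Agent.Lib.Lie.RankOneClass.Ident.Torus
import Mathlib.GroupTheory.Perm.Cycle.Type

/-!
Owner: helper20 (slice H). The blocks (the translates of the line), the relation between two
blocks given by the elements conjugate to `w₀`, and the count showing that related blocks exist.
-/

set_option autoImplicit false
set_option linter.all false

namespace CfsgLib.Lie.RankOneClass.Ident

open MulAction CfsgLib.Lie.RankOne Matrix CfsgLib.Classical.Herm
open scoped Pointwise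

/-- A permutation of prime order `l` of a set with `s ≢ 0 (mod l)` points fixes one of them. -/
theorem exists_fixed_of_prime {G X : Type*} [Group G] [MulAction G X] {l : ℕ} (hl : l.Prime)
    {w : G} (hw : w ^ l = 1) (S : Set X) [Finite S] (hS : ∀ x ∈ S, w • x ∈ S)
    (hcard : ¬ l ∣ S.ncard) : ∃ x ∈ S, w • x = x := by
  classical
  haveI := Fact.mk hl
  haveI := Fintype.ofFinite S
  let f : ↥S → ↥S := fun x => ⟨w • (x : X), hS x x.2⟩
  have hinj : Function.Injective f := fun x y h =>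
    Subtype.ext (smul_left_cancel w (congrArg Subtype.val h))
  let π : Equiv.Perm ↥S := Equiv.ofBijective f (Finite.injective_iff_bijective.1 hinj)
  have hpow : ∀ (n : ℕ) (x : ↥S), ((π ^ n) x : X) = w ^ n • (x : X) := fun n x => by
    induction n with
    | zero => simp
    | succ n ih => rw [pow_succ', pow_succ', Equiv.Perm.mul_apply, mul_smul, ← ih]; rfl
  obtain ⟨x, hx⟩ := Equiv.Perm.exists_fixed_point_of_prime (p := l) (n := 1) (σ := π)
    (by rwa [← Nat.card_eq_fintype_card, Nat.card_coe_set_eq])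
    (Equiv.ext fun x => Subtype.ext (by rw [pow_one, hpow, hw, one_smul]; rfl))
  exact ⟨x, x.2, congrArg Subtype.val hx⟩

variable {G Ω : Type*} [Group G] [MulAction G Ω] {a : Ω} {t : G} {Q : Subgroup G}
  [Finite G] [FaithfulSMul G Ω]

local notation "𝔇" => ((stabilizer G a ⊓ stabilizer G (t • a)) : Subgroup G)

namespace LineData

variable {F : Type} [Field F] [Fintype F] (D : LineData G Ω a t Q F)

include D

theorem smul_line_eq {g : G} (h : ∀ p ∈ D.line, g • p ∈ D.line) : g • D.line = D.line := by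
  haveI := (card_points D.hS).1
  refine Set.eq_of_subset_of_ncard_le ?_ ?_ (Set.toFinite _)
  · rintro _ ⟨p, hp, rfl⟩
    exact h p hp
  · rw [Set.ncard_smul_set]

theorem lineGroup_smul_line {g : G} (hg : g ∈ D.lineGroup) : g • D.line = D.line :=
  D.smul_line_eq fun _ hp => D.smul_line hg hp

theorem D_smul_line {d : G} (hd : d ∈ 𝔇) : d • D.line = D.line :=
  D.smul_line_eq fun _ hp => D.D_line hd hp

/-- `⟨Z, t⟩` is two-transitive on the line. -/
theorem exists_move {x y : Ω} (hx : x ∈ D.line) (hy : y ∈ D.line) (hne : x ≠ y) :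
    ∃ M : SpecialLinearGroup (Fin 2) F, D.hom M • a = x ∧ D.hom M • (t • a) = y := by
  obtain ⟨u, hu, rfl⟩ := D.exists_ptv hx
  obtain ⟨v, hv, rfl⟩ := D.exists_ptv hy
  set δ := u.1 * v.2 + u.2 * v.1 with hδ
  have hδ0 : δ ≠ 0 := fun h => hne ((D.ptv_eq_iff hu hv).2 (D.eq_of_add_eq_zero h))
  have hdet : δ⁻¹ * u.1 * v.2 + v.1 * (δ⁻¹ * u.2) = 1 := by
    have : δ⁻¹ * δ = 1 := inv_mul_cancel₀ hδ0
    rw [hδ] at this ⊢
    linear_combination this
  refine ⟨D.mat (δ⁻¹ * u.1) v.1 (δ⁻¹ * u.2) v.2 hdet, ?_, ?_⟩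
  · obtain ⟨e1, e2, e3, e4⟩ := D.mat_apply (δ⁻¹ * u.1) v.1 (δ⁻¹ * u.2) v.2 hdet
    refine (congrArg (D.hom _ • ·) (D.ptv_zero (w := ((1 : F), (0 : F))) rfl).symm).trans ?_
    show D.hom _ • D.ptv ((1 : F), (0 : F)) = D.ptv u
    rw [D.hom_act _ (by simp [Prod.ext_iff]),
      show app _ ((1 : F), (0 : F)) = (δ⁻¹ * u.1, δ⁻¹ * u.2) by
        simp only [app, e1, e2, e3, e4]; simp, D.ptv_smul (inv_ne_zero hδ0) u]
  · obtain ⟨e1, e2, e3, e4⟩ := D.mat_apply (δ⁻¹ * u.1) v.1 (δ⁻¹ * u.2) v.2 hdet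
    have hb : D.ptv ((0 : F), (1 : F)) = t • a := by
      rw [D.ptv_ne (w := ((0 : F), (1 : F))) one_ne_zero, zero_div, D.C.z_zero, one_smul]
    rw [← hb, D.hom_act _ (by simp [Prod.ext_iff]),
      show app _ ((0 : F), (1 : F)) = (v.1, v.2) by simp only [app, e1, e2, e3, e4]; simp]

/-- The setwise stabiliser of the line is `⟨Z, t⟩ D`. -/
theorem stab_decomp {g : G} (hg : g • D.line = D.line) :
    ∃ M : SpecialLinearGroup (Fin 2) F, ∃ d ∈ 𝔇, g = D.hom M * d := by
  have hga : g • a ∈ D.line := hg ▸ Set.smul_mem_smul_set D.mem_line_a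
  have hgb : g • (t • a) ∈ D.line := hg ▸ Set.smul_mem_smul_set D.mem_line_b
  obtain ⟨M, h1, h2⟩ := D.exists_move hga hgb fun h => t_smul_ne D.hS (smul_left_cancel g h).symm
  refine ⟨M, (D.hom M)⁻¹ * g, mem_D.2 ⟨?_, ?_⟩, by rw [mul_inv_cancel_left]⟩
  · rw [mul_smul, ← h1, inv_smul_smul]
  · rw [mul_smul, ← h2, inv_smul_smul]

/-- A block. -/
def IsBlock (B : Set Ω) : Prop := ∃ g : G, g • D.line = B

theorem isBlock_line : D.IsBlock D.line := ⟨1, one_smul G _⟩

theorem IsBlock.smul' {B : Set Ω} (hB : D.IsBlock B) (h : G) : D.IsBlock (h • B) := by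
  obtain ⟨g, rfl⟩ := hB
  exact ⟨h * g, mul_smul h g _⟩

theorem card_block {B : Set Ω} (hB : D.IsBlock B) : B.ncard = Fintype.card F + 1 := by
  obtain ⟨g, rfl⟩ := hB
  rw [Set.ncard_smul_set, ← Nat.card_coe_set_eq, D.card_line]

theorem block_eq_line {B : Set Ω} (hB : D.IsBlock B) (ha : a ∈ B) (hb : t • a ∈ B) :
    B = D.line := by
  obtain ⟨g, rfl⟩ := hB
  rw [Set.mem_smul_set_iff_inv_smul_mem] at ha hb
  obtain ⟨M, h1, h2⟩ := D.exists_move ha hb fun h => t_smul_ne D.hS (smul_left_cancel _ h).symm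
  have hd : g * D.hom M ∈ 𝔇 := mem_D.2
    ⟨by rw [mul_smul, h1, smul_inv_smul], by rw [mul_smul, h2, smul_inv_smul]⟩
  have h := D.D_smul_line hd
  rwa [mul_smul, D.lineGroup_smul_line (D.hom_mem M)] at h

theorem block_unique {B B' : Set Ω} (hB : D.IsBlock B) (hB' : D.IsBlock B') {p p' : Ω}
    (hne : p ≠ p') (hp : p ∈ B) (hp' : p' ∈ B) (hq : p ∈ B') (hq' : p' ∈ B') : B = B' := by
  obtain ⟨h, h1, h2⟩ := pairs D.hS hne (t_smul_ne D.hS).symm
  have key : ∀ C : Set Ω, D.IsBlock C → p ∈ C → p' ∈ C → C = h⁻¹ • D.line := by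
    intro C hC m m'
    rw [eq_inv_smul_iff]
    exact D.block_eq_line (IsBlock.smul' D hC h) (h1 ▸ Set.smul_mem_smul_set m)
      (h2 ▸ Set.smul_mem_smul_set m')
  rw [key B hB hp hp', key B' hB' hq hq']

theorem exists_block_of_pair {p p' : Ω} (hne : p ≠ p') :
    ∃ B, D.IsBlock B ∧ p ∈ B ∧ p' ∈ B := by
  obtain ⟨h, h1, h2⟩ := pairs D.hS (t_smul_ne D.hS).symm hne
  exact ⟨h • D.line, ⟨h, rfl⟩, h1 ▸ Set.smul_mem_smul_set D.mem_line_a,
    h2 ▸ Set.smul_mem_smul_set D.mem_line_b⟩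

/-- The number `b` of blocks satisfies `b (q + 1) q = (q ^ 3 + 1) q ^ 3`. -/
theorem card_blocks (hN : Nat.card Q = Fintype.card F ^ 3) :
    {B : Set Ω | D.IsBlock B}.ncard * ((Fintype.card F + 1) * Fintype.card F) =
      (Fintype.card F ^ 3 + 1) * Fintype.card F ^ 3 := by
  classical
  obtain ⟨hfin, hcard⟩ := card_points D.hS
  haveI := Fintype.ofFinite Ω
  set S : Finset (Set Ω) := (Set.toFinite {B : Set Ω | D.IsBlock B}).toFinset with hS
  have hmem : ∀ B, B ∈ S ↔ D.IsBlock B := fun B => by simp [hS]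
  have hU : (Finset.univ : Finset Ω).offDiag = S.biUnion fun B => B.toFinset.offDiag := by
    ext ⟨p, p'⟩
    simp only [Finset.mem_offDiag, Finset.mem_univ, true_and, Finset.mem_biUnion, Set.mem_toFinset,
      hmem]
    constructor
    · intro hne
      obtain ⟨B, hB, h1, h2⟩ := D.exists_block_of_pair hne
      exact ⟨B, hB, h1, h2, hne⟩
    · rintro ⟨B, -, -, -, hne⟩
      exact hne
  have hdisj : (S : Set (Set Ω)).PairwiseDisjoint fun B => B.toFinset.offDiag := by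
    intro B hB B' hB' hne
    rw [Function.onFun, Finset.disjoint_left]
    rintro ⟨p, p'⟩ h h'
    simp only [Finset.mem_offDiag, Set.mem_toFinset] at h h'
    exact hne (D.block_unique ((hmem B).1 hB) ((hmem B').1 hB') h.2.2 h.1 h.2.1 h'.1 h'.2.1)
  have h := congrArg Finset.card hU
  rw [Finset.card_biUnion hdisj, Finset.sum_congr rfl (g := fun _ =>
      (Fintype.card F + 1) * Fintype.card F) (fun B hB => by
    rw [Finset.offDiag_card, ← Set.ncard_eq_toFinset_card', D.card_block ((hmem B).1 hB),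
      ← Nat.mul_sub_one, Nat.add_sub_cancel]), Finset.sum_const, smul_eq_mul,
    Finset.offDiag_card, Finset.card_univ, ← Nat.card_eq_fintype_card, hcard, hN,
    ← Nat.mul_sub_one, Nat.add_sub_cancel] at h
  rw [Set.ncard_eq_toFinset_card _ (Set.toFinite _)]
  exact h.symm

end LineData

variable {L : Type} [Field L] [Fintype L] [CharP L 2] {σ : L →+* L} [Fintype (fixedSub σ)]

namespace UData

variable (U : UData G Ω a t Q L σ)

include U

theorem w0_ne : U.w0 ≠ 1 := fun h => U.hl.ne_one (by rw [← U.hord, h, orderOf_one])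

theorem w0_pow : U.w0 ^ U.l = 1 := by rw [← U.hord, pow_orderOf_eq_one]

theorem fix_iff' {p : Ω} : U.w0 • p = p ↔ p ∈ U.D.line :=
  ⟨U.D.W_fix U.hC U.hw0 U.w0_ne, U.D.W_fix_line U.hw0⟩

/-- The fixed points of a conjugate of `w₀`. -/
theorem fix_conj_iff (g : G) {p : Ω} :
    (g * U.w0 * g⁻¹) • p = p ↔ p ∈ g • U.D.line := by
  rw [Set.mem_smul_set_iff_inv_smul_mem, ← U.fix_iff', mul_smul, mul_smul, smul_eq_iff_eq_inv_smul]

theorem conj_pow_of_smul_eq {g g' : G} (h : g • U.D.line = g' • U.D.line) :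
    ∃ i : ℕ, g' * U.w0 * g'⁻¹ = (g * U.w0 * g⁻¹) ^ i := by
  obtain ⟨M, d, hd, he⟩ := U.D.stab_decomp (g := g⁻¹ * g') (by
    rw [mul_smul, ← h, inv_smul_smul])
  obtain ⟨i, hi⟩ := U.hnorm d hd
  refine ⟨i, ?_⟩
  have hg' : g' = g * U.D.hom M * d := by rw [mul_assoc, ← he, mul_inv_cancel_left]
  rw [conj_pow, hg']
  calc g * U.D.hom M * d * U.w0 * (g * U.D.hom M * d)⁻¹
      = g * (U.D.hom M * (d * U.w0 * d⁻¹) * (U.D.hom M)⁻¹) * g⁻¹ := by group
    _ = g * U.w0 ^ i * g⁻¹ := by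
        rw [hi, ← U.D.W_comm (pow_mem U.hw0 i) (U.D.hom_mem M), mul_inv_cancel_right]

/-- Two blocks are related if they are disjoint and the second is invariant under the conjugates of
`w₀` belonging to the first. -/
def Rel (B B' : Set Ω) : Prop :=
  ∃ g : G, g • U.D.line = B ∧ U.D.IsBlock B' ∧ Disjoint B B' ∧ (g * U.w0 * g⁻¹) • B' = B'

theorem rel_iff {g : G} {B B' : Set Ω} (hg : g • U.D.line = B) :
    U.Rel B B' ↔ U.D.IsBlock B' ∧ Disjoint B B' ∧ (g * U.w0 * g⁻¹) • B' = B' := by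
  refine ⟨fun ⟨g', hg', hB, hd, hfix⟩ => ⟨hB, hd, ?_⟩, fun ⟨hB, hd, hfix⟩ => ⟨g, hg, hB, hd, hfix⟩⟩
  obtain ⟨i, hi⟩ := U.conj_pow_of_smul_eq (g := g') (g' := g) (hg'.trans hg.symm)
  rw [hi]
  exact (mem_stabilizer_iff).1 (pow_mem (mem_stabilizer_iff.2 hfix) i)

theorem rel_line_iff {B' : Set Ω} :
    U.Rel U.D.line B' ↔ U.D.IsBlock B' ∧ Disjoint U.D.line B' ∧ U.w0 • B' = B' := by
  rw [U.rel_iff (g := 1) (one_smul G _), one_mul, inv_one, mul_one]

theorem rel_smul {B B' : Set Ω} (h : U.Rel B B') (k : G) : U.Rel (k • B) (k • B') := by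
  obtain ⟨g, hg, hB, hd, hfix⟩ := h
  refine ⟨k * g, by rw [mul_smul, hg], LineData.IsBlock.smul' U.D hB k, ?_, ?_⟩
  · exact Set.disjoint_smul_set.2 hd
  · rw [show k * g * U.w0 * (k * g)⁻¹ = k * (g * U.w0 * g⁻¹) * k⁻¹ by group, mul_smul, mul_smul,
      inv_smul_smul, hfix]

theorem rel_smul_iff {B B' : Set Ω} (k : G) : U.Rel (k • B) (k • B') ↔ U.Rel B B' :=
  ⟨fun h => by simpa using U.rel_smul h k⁻¹, fun h => U.rel_smul h k⟩

/-- A block fixed by `w₀`, other than the line, is disjoint from it. -/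
theorem disjoint_of_fix {B : Set Ω} (hB : U.D.IsBlock B) (hfix : U.w0 • B = B)
    (hne : B ≠ U.D.line) : Disjoint U.D.line B := by
  haveI := (card_points U.D.hS).1
  rw [Set.disjoint_left]
  intro f hf hfB
  have hrest : ∀ p ∈ B \ {f}, p ∉ U.D.line := fun p hp hpl =>
    hne (U.D.block_unique hB U.D.isBlock_line hp.2 hp.1 hfB hpl hf)
  obtain ⟨x, hx, hxf⟩ := exists_fixed_of_prime U.hl U.w0_pow (B \ {f}) (fun p hp => by
    refine ⟨hfix ▸ Set.smul_mem_smul_set hp.1, fun e => hp.2 ?_⟩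
    exact smul_left_cancel U.w0 ((show U.w0 • p = f from e).trans (U.fix_iff'.2 hf).symm)) (by
      rw [Set.ncard_sdiff_singleton_of_mem hfB, U.D.card_block hB, Nat.add_sub_cancel]
      intro h
      exact U.hl.one_lt.ne' (Nat.eq_one_of_dvd_one ((Nat.dvd_add_right h).1 U.hdvd)))
  exact hrest x hx (U.fix_iff'.1 hxf)

/-- Some block is related to the line. -/
theorem exists_rel : ∃ B, U.Rel U.D.line B := by
  haveI := (card_points U.D.hS).1
  set S := {B : Set Ω | U.D.IsBlock B} \ {U.D.line} with hS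
  obtain ⟨B, hB, hfix⟩ := exists_fixed_of_prime U.hl U.w0_pow S (fun B hB =>
    ⟨LineData.IsBlock.smul' U.D hB.1 U.w0, fun h => hB.2 (by
      have h' : U.w0 • B = U.D.line := h
      have hl : U.w0 • U.D.line = U.D.line :=
        U.D.D_smul_line (mem_Wg.1 U.hw0).1
      exact smul_left_cancel U.w0 (h'.trans hl.symm))⟩) (by
    intro hdvd
    haveI := Fact.mk U.hl
    rw [Set.ncard_sdiff_singleton_of_mem (show U.D.line ∈ {B : Set Ω | U.D.IsBlock B} from
      U.D.isBlock_line)] at hdvd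
    set b := {B : Set Ω | U.D.IsBlock B}.ncard with hb
    have hpos : 1 ≤ b := (Set.ncard_pos (Set.toFinite _)).2 ⟨_, U.D.isBlock_line⟩
    have h := U.D.card_blocks U.hN
    rw [← hb] at h
    set q := Fintype.card (fixedSub σ) with hq
    have hq0 : 0 < q := Fintype.card_pos
    have h' : b + q ^ 3 = q ^ 4 + q ^ 2 := by
      have e : (b + q ^ 3) * ((q + 1) * q) = (q ^ 4 + q ^ 2) * ((q + 1) * q) := by
        linear_combination h
      exact Nat.eq_of_mul_eq_mul_right (by positivity) e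
    have h1 : (b : ZMod U.l) = 1 := by
      have := (ZMod.natCast_eq_zero_iff (b - 1) U.l).2 hdvd
      rw [Nat.cast_sub hpos, Nat.cast_one, sub_eq_zero] at this
      exact this
    have h2 : (q : ZMod U.l) = -1 := by
      have := (ZMod.natCast_eq_zero_iff (q + 1) U.l).2 U.hdvd
      rw [Nat.cast_add, Nat.cast_one] at this
      exact eq_neg_of_add_eq_zero_left this
    have h3 := congrArg (Nat.cast : ℕ → ZMod U.l) h'
    push_cast at h3
    rw [h1, h2] at h3
    have h4 : ((2 : ℕ) : ZMod U.l) = 0 := by push_cast; linear_combination -h3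
    exact U.hl2 ((Nat.prime_dvd_prime_iff_eq U.hl Nat.prime_two).1
      ((ZMod.natCast_eq_zero_iff 2 U.l).1 h4)))
  exact ⟨B, U.rel_line_iff.2 ⟨hB.1, U.disjoint_of_fix hB.1 hfix hB.2, hfix⟩⟩

end UData

end CfsgLib.Lie.RankOneClass.Ident
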