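import Mathlib.GroupTheory.PGroup
import Mathlib.GroupTheory.QuotientGroup.Basic
import Mathlib.FieldTheory.Finite.Basic
import Mathlib.Algebra.CharP.Lemmas
import Mathlib.Algebra.Polynomial.Roots
import Mathlib.RingTheory.Ideal.Maps
import Mathlib.Algebra.Ring.Subring.Basic

/-!
Owner: helper20 (slice H). A group of order `q²` whose elements are labelled by a field `L` of
order `q²`, so that the scalars from the subfield of order `q` and one further scalar are
automorphisms, is elementary abelian, and the labels in a line over the subfield form a subgroup.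
-/

set_option autoImplicit false
set_option linter.all false

namespace CfsgLib.Lie.RankOneClass.Ident

theorem exponent_eq {n m : ℕ} (hn : 1 ≤ n) (h1 : n < m) (h2 : m ≤ 2 * n)
    (h : 2 ^ n - 1 ∣ 2 ^ m - 1) : m = 2 * n := by
  obtain ⟨j, rfl⟩ : ∃ j, m = n + j := ⟨m - n, by omega⟩
  have hj : 2 ^ n - 1 ∣ 2 ^ j - 1 := by
    have e : 2 ^ (n + j) - 1 = 2 ^ j * (2 ^ n - 1) + (2 ^ j - 1) := by
      rw [Nat.mul_sub_one, pow_add, mul_comm]
      have : 1 ≤ 2 ^ j := Nat.one_le_two_pow
      have : 2 ^ j ≤ 2 ^ j * 2 ^ n := Nat.le_mul_of_pos_right _ (Nat.two_pow_pos n)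
      omega
    rw [e] at h
    exact (Nat.dvd_add_right (Dvd.intro_left _ rfl)).1 h
  have hpos : 0 < 2 ^ j - 1 := by
    have : 2 ^ 1 ≤ 2 ^ j := Nat.pow_le_pow_right (by norm_num) (by omega)
    omega
  have hle := Nat.le_of_dvd hpos hj
  by_contra hne
  have : 2 ^ j < 2 ^ n := Nat.pow_lt_pow_right (by norm_num) (by omega)
  omega

section

variable {U : Type*} [Group U] [Finite U] {L : Type*} [Field L] [Finite L]
  (e : U ≃ L) (he : e 1 = 0) {n : ℕ} (hn : 1 ≤ n) (hL : Nat.card L = (2 ^ n) ^ 2)
  (F : Subfield L) (hF : Nat.card F = 2 ^ n) {ζ : L} (hζ : ζ ∉ F)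

include he hn hL hF hζ in
/-- An invariant subgroup is trivial or everything. -/
theorem invariant_eq (H : Subgroup U)
    (hH : ∀ u ∈ H, ∀ s : L, s ∈ F ∨ s = ζ → e.symm (s * e u) ∈ H) : H = ⊥ ∨ H = ⊤ := by
  classical
  by_cases hbot : H = ⊥
  · exact Or.inl hbot
  right
  obtain ⟨u, hu, hu1⟩ := H.bot_or_exists_ne_one.resolve_left hbot
  set S : Set L := e '' (H : Set U) with hSdef
  have hScard : S.ncard = Nat.card H := by
    rw [hSdef, Set.ncard_image_of_injective _ e.injective, Nat.card_coe_set_eq (H : Set U) |>.symm]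
    rfl
  have h0S : (0 : L) ∈ S := ⟨1, one_mem H, he⟩
  have hst : ∀ z ∈ S, ∀ s : L, s ∈ F ∨ s = ζ → s * z ∈ S := by
    rintro _ ⟨x, hx, rfl⟩ s hs
    exact ⟨_, hH x hx s hs, e.apply_symm_apply _⟩
  set z := e u with hz
  have hz0 : z ≠ 0 := fun h => hu1 (e.injective (h.trans he.symm))
  -- more than `q` labels
  have hbig : 2 ^ n < S.ncard := by
    have hsub : Set.insert (ζ * z) ((fun x : F => (x : L) * z) '' Set.univ) ⊆ S := by
      rintro _ (rfl | ⟨x, -, rfl⟩)
      · exact hst z ⟨u, hu, rfl⟩ ζ (Or.inr rfl)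
      · exact hst z ⟨u, hu, rfl⟩ x (Or.inl x.2)
    have hnot : ζ * z ∉ ((fun x : F => (x : L) * z) '' Set.univ) := by
      rintro ⟨x, -, hx⟩
      exact hζ (mul_right_cancel₀ hz0 hx ▸ x.2)
    have h := Set.ncard_le_ncard hsub (Set.toFinite _)
    rw [show Set.insert (ζ * z) ((fun x : F => (x : L) * z) '' Set.univ) =
      insert (ζ * z) ((fun x : F => (x : L) * z) '' Set.univ) from rfl,
      Set.ncard_insert_of_notMem hnot (Set.toFinite _),
      Set.ncard_image_of_injective _ (fun x y h => Subtype.ext (mul_right_cancel₀ hz0 h)),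
      Set.ncard_univ, hF] at h
    omega
  -- `q - 1` divides the number of nonzero labels
  have hdvd : 2 ^ n - 1 ∣ S.ncard - 1 := by
    haveI := Fintype.ofFinite F
    let K : Subgroup Lˣ := (Units.map (F.subtype : F →* L)).range
    have hK : Nat.card K = 2 ^ n - 1 := by
      have hinj : Function.Injective (Units.map (F.subtype : F →* L)) :=
        Units.map_injective Subtype.val_injective
      rw [← Nat.card_congr (MonoidHom.ofInjective hinj).toEquiv, Nat.card_eq_fintype_card,
        Fintype.card_units, ← Nat.card_eq_fintype_card, hF]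
    let S' : Set Lˣ := {x | (x : L) ∈ S}
    have hpre : S' = QuotientGroup.mk ⁻¹' ((QuotientGroup.mk : Lˣ → Lˣ ⧸ K) '' S') := by
      refine Set.Subset.antisymm (Set.subset_preimage_image _ _) ?_
      rintro x ⟨y, hy, hxy⟩
      obtain ⟨k, hk⟩ := (QuotientGroup.eq.1 hxy : y⁻¹ * x ∈ K)
      have e1 : (x : L) = ((k : F) : L) * (y : L) := by
        have := congrArg (Units.val : Lˣ → L) hk
        simp only [Units.coe_map, Units.val_mul] at this
        have hy0 : (y : L) ≠ 0 := y.ne_zero
        rw [Units.val_inv_eq_inv_val] at this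
        have e2 : ((k : F) : L) = (y : L)⁻¹ * x := this
        rw [e2]
        field_simp
      show (x : L) ∈ S
      rw [e1]
      exact hst _ hy _ (Or.inl (k : F).2)
    have hc : S'.ncard = S.ncard - 1 := by
      rw [← Set.ncard_sdiff_singleton_of_mem h0S, ← Set.ncard_image_of_injective S' Units.val_injective]
      congr 1
      ext x
      constructor
      · rintro ⟨y, hy, rfl⟩
        exact ⟨hy, y.ne_zero⟩
      · rintro ⟨hx, hx0⟩
        exact ⟨Units.mk0 x hx0, hx, rfl⟩
    rw [← hc, hpre, ← Nat.card_coe_set_eq,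
      Nat.card_congr (QuotientGroup.preimageMkEquivSubgroupProdSet K _), Nat.card_prod, hK]
    exact dvd_mul_right _ _
  have hU : Nat.card U = 2 ^ (2 * n) := by rw [Nat.card_congr e, hL, ← pow_mul, mul_comm]
  obtain ⟨m, hm, hHm⟩ := (Nat.dvd_prime_pow Nat.prime_two).1 (hU ▸ Subgroup.card_subgroup_dvd_card H)
  rw [hScard, hHm] at hbig hdvd
  have := exponent_eq hn ((Nat.pow_lt_pow_iff_right (by norm_num)).1 hbig) hm hdvd
  exact Subgroup.eq_top_of_card_eq H (by rw [hHm, this, hU])

variable (hs : ∀ s : L, s ∈ F ∨ s = ζ → ∀ u v : U,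
  e.symm (s * e (u * v)) = e.symm (s * e u) * e.symm (s * e v))

include he hn hL hF hζ hs

/-- Such a group is elementary abelian. -/
theorem elementary : (∀ u : U, u * u = 1) ∧ ∀ u v : U, u * v = v * u := by
  haveI := Fact.mk Nat.prime_two
  have hU : Nat.card U = 2 ^ (2 * n) := by rw [Nat.card_congr e, hL, ← pow_mul, mul_comm]
  have hp : IsPGroup 2 U := IsPGroup.of_card hU
  haveI : Nontrivial U := Finite.one_lt_card_iff_nontrivial.1 (by
    rw [hU]; exact Nat.one_lt_two_pow (by omega))
  haveI := hp.center_nontrivial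
  let H : Subgroup U :=
    { carrier := {u | u ∈ Subgroup.center U ∧ u * u = 1}
      one_mem' := ⟨one_mem _, one_mul 1⟩
      mul_mem' := fun {x y} hx hy => ⟨mul_mem hx.1 hy.1, by
        rw [mul_assoc, ← mul_assoc y x y, Subgroup.mem_center_iff.1 hx.1 y, mul_assoc x y y, hy.2,
          mul_one, hx.2]⟩
      inv_mem' := fun {x} hx => ⟨inv_mem hx.1, by rw [← _root_.mul_inv_rev, hx.2, inv_one]⟩ }
  have hne : H ≠ ⊥ := by
    intro hbot
    obtain ⟨k, hk, hk1⟩ := (hp.to_subgroup (Subgroup.center U)).nontrivial_iff_card.1 inferInstance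
    obtain ⟨x, hx⟩ := exists_prime_orderOf_dvd_card' (G := Subgroup.center U) 2
      (hk1 ▸ dvd_pow_self 2 hk.ne')
    have hxH : (x : U) ∈ H := ⟨x.2, by
      rw [← pow_two, ← Subgroup.coe_pow, ← hx, pow_orderOf_eq_one]; rfl⟩
    rw [hbot, Subgroup.mem_bot] at hxH
    rw [← Subgroup.orderOf_coe, hxH, orderOf_one] at hx
    exact absurd hx (by norm_num)
  have htop := (invariant_eq e he hn hL F hF hζ H fun u hu s hs' => by
    by_cases hs0 : s = 0
    · rw [hs0, zero_mul, ← he, e.symm_apply_apply]; exact one_mem H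
    have hsur : Function.Surjective fun x => e.symm (s * e x) := fun y =>
      ⟨e.symm (s⁻¹ * e y), by simp [mul_inv_cancel_left₀ hs0]⟩
    refine ⟨Subgroup.mem_center_iff.2 fun y => ?_, ?_⟩
    · obtain ⟨x, rfl⟩ := hsur y
      show e.symm (s * e x) * _ = _ * e.symm (s * e x)
      rw [← hs s hs', ← hs s hs', Subgroup.mem_center_iff.1 hu.1 x]
    · rw [← hs s hs', hu.2, he, mul_zero, ← he, e.symm_apply_apply]).resolve_left hne
  have hall : ∀ u : U, u ∈ Subgroup.center U ∧ u * u = 1 := fun u => by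
    have : u ∈ H := htop ▸ Subgroup.mem_top u
    exact this
  exact ⟨fun u => (hall u).2, fun u v => Subgroup.mem_center_iff.1 (hall v).1 u⟩

/-- The labels on a line over the subfield form a subgroup. -/
theorem line_closed (u : U) {μ : L} (hμ : μ ∈ F) :
    ∃ ν ∈ F, e (u * e.symm (μ * e u)) = ν * e u := by
  classical
  obtain ⟨hsq, hcomm⟩ := elementary e he hn hL F hF hζ hs
  letI : CommGroup U := { ‹Group U› with mul_comm := hcomm }
  haveI := Fintype.ofFinite F
  haveI : Nontrivial U := Finite.one_lt_card_iff_nontrivial.1 (by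
    rw [Nat.card_congr e, hL, ← pow_mul]; exact Nat.one_lt_two_pow (by positivity))
  let ψ : (s : L) → s ∈ F ∨ s = ζ → AddMonoid.End (Additive U) := fun s h =>
    { toFun := fun x => Additive.ofMul (e.symm (s * e x.toMul))
      map_zero' := congrArg Additive.ofMul (by rw [toMul_zero, he, mul_zero, ← he, e.symm_apply_apply])
      map_add' := fun x y => congrArg Additive.ofMul (hs s h x.toMul y.toMul) }
  have ψ_apply : ∀ s h x, ψ s h x = Additive.ofMul (e.symm (s * e x.toMul)) := fun _ _ _ => rfl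
  have ψ_comm : ∀ s h s' h', ψ s h * ψ s' h' = ψ s' h' * ψ s h := fun s h s' h' => by
    refine AddMonoidHom.ext fun x => ?_
    show ψ s h (ψ s' h' x) = ψ s' h' (ψ s h x)
    simp only [ψ_apply, toMul_ofMul, e.apply_symm_apply]
    rw [mul_left_comm]
  set S := Subring.closure (Set.range fun x : F => ψ x (Or.inl x.2)) with hS
  letI : CommRing S := Subring.closureCommRingOfComm (by
    rintro _ ⟨x, rfl⟩ _ ⟨y, rfl⟩
    exact ψ_comm _ (Or.inl x.2) _ (Or.inl y.2))
  have hcentral : ∀ x ∈ S, ∀ s h, x * ψ s h = ψ s h * x := by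
    intro x hx s h
    refine Subring.closure_induction (p := fun x _ => Commute x (ψ s h)) ?_ (Commute.zero_left _)
      (Commute.one_left _) (fun _ _ _ _ hx hy => hx.add_left hy) (fun _ _ hx => hx.neg_left)
      (fun _ _ _ _ hx hy => hx.mul_left hy) hx
    rintro _ ⟨y, rfl⟩
    exact ψ_comm _ (Or.inl y.2) s h
  have hinj : ∀ x : S, x ≠ 0 → ∀ y, (x : AddMonoid.End (Additive U)) y = 0 → y = 0 := by
    intro x hx y hy
    let K : Subgroup U :=
      { carrier := {v | (x : AddMonoid.End (Additive U)) (Additive.ofMul v) = 0}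
        one_mem' := map_zero _
        mul_mem' := fun {v w} hv hw => by
          show (x : AddMonoid.End (Additive U)) (Additive.ofMul v + Additive.ofMul w) = 0
          rw [map_add]; show _ + _ = _; rw [hv, hw, add_zero]
        inv_mem' := fun {v} hv => by
          show (x : AddMonoid.End (Additive U)) (-Additive.ofMul v) = 0
          rw [map_neg]; show -_ = _; rw [hv, neg_zero] }
    rcases invariant_eq e he hn hL F hF hζ K (fun v hv s h => by
      show (x : AddMonoid.End (Additive U)) (ψ s h (Additive.ofMul v)) = 0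
      rw [show (x : AddMonoid.End (Additive U)) (ψ s h (Additive.ofMul v)) =
        ((x : AddMonoid.End (Additive U)) * ψ s h) (Additive.ofMul v) from rfl, hcentral _ x.2 s h]
      show ψ s h ((x : AddMonoid.End (Additive U)) (Additive.ofMul v)) = 0
      rw [show (x : AddMonoid.End (Additive U)) (Additive.ofMul v) = 0 from hv, map_zero]) with h | h
    · have : y.toMul ∈ K := hy
      rw [h, Subgroup.mem_bot] at this
      exact congrArg Additive.ofMul this
    · exact absurd (Subtype.ext (AddMonoidHom.ext fun y => (h ▸ Subgroup.mem_top y.toMul :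
        y.toMul ∈ K)) : x = 0) hx
  haveI : NoZeroDivisors S := ⟨fun {x y} h => by
    by_contra hc
    push Not at hc
    refine hc.2 (Subtype.ext (AddMonoidHom.ext fun z => hinj x hc.1 _ ?_))
    exact DFunLike.congr_fun (congrArg Subtype.val h) z⟩
  have h2 : ∀ x : AddMonoid.End (Additive U), x + x = 0 := fun x => AddMonoidHom.ext fun y => by
    show x y + x y = 0
    exact congrArg Additive.ofMul (hsq (x y).toMul)
  have hψ1 : ψ (1 : L) (Or.inl F.one_mem) = 1 := AddMonoidHom.ext fun x => by
    show ψ 1 (Or.inl F.one_mem) x = x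
    rw [ψ_apply 1 (Or.inl F.one_mem), one_mul, e.symm_apply_apply]; rfl
  haveI : Nontrivial S := ⟨⟨0, 1, fun h => by
    obtain ⟨u, hu⟩ := exists_ne (1 : U)
    refine hu ?_
    have := DFunLike.congr_fun (congrArg Subtype.val h) (Additive.ofMul u)
    exact (congrArg Additive.toMul this).symm⟩⟩
  haveI : IsDomain S := NoZeroDivisors.to_isDomain S
  haveI : CharP S 2 := CharTwo.of_one_ne_zero_of_two_eq_zero one_ne_zero (Subtype.ext (by
    rw [← one_add_one_eq_two]; exact h2 1))
  let φ : F → S := fun x => ⟨ψ x (Or.inl x.2), Subring.subset_closure ⟨x, rfl⟩⟩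
  have φ_pow : ∀ (x : F) (m : ℕ), φ (x ^ m) = φ x ^ m := fun x m => by
    refine Subtype.ext ?_
    induction m with
    | zero =>
      rw [pow_zero, pow_zero]
      exact hψ1
    | succ m ih =>
      rw [pow_succ', pow_succ' (φ x)]
      refine AddMonoidHom.ext fun y => ?_
      show (φ (x * x ^ m) : AddMonoid.End (Additive U)) y =
        (φ x : AddMonoid.End (Additive U)) (((φ x ^ m : S) : AddMonoid.End (Additive U)) y)
      rw [← ih]
      simp only [φ, ψ_apply, toMul_ofMul, e.apply_symm_apply, Subfield.coe_mul, mul_assoc]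
  have φ_inj : Function.Injective φ := fun x y h => by
    obtain ⟨u, hu⟩ := exists_ne (1 : U)
    have := congrArg Additive.toMul
      (DFunLike.congr_fun (congrArg Subtype.val h) (Additive.ofMul u))
    have h' : (x : L) * e u = (y : L) * e u := e.symm.injective this
    exact Subtype.ext (mul_right_cancel₀ (fun h0 => hu (e.injective (h0.trans he.symm))) h')
  obtain ⟨ν, hν⟩ : ∃ ν : F, φ ν = φ 1 + φ ⟨μ, hμ⟩ := by
    by_contra hne
    push Not at hne
    have hq1 : 1 < 2 ^ n := Nat.one_lt_two_pow (by omega)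
    have hfix : ∀ x : F, φ x ^ 2 ^ n = φ x := fun x => by
      rw [← φ_pow, ← hF, Nat.card_eq_fintype_card, FiniteField.pow_card]
    have hsum : (φ 1 + φ ⟨μ, hμ⟩) ^ 2 ^ n = φ 1 + φ ⟨μ, hμ⟩ := by
      rw [add_pow_char_pow, hfix, hfix]
    have hle : (insert (φ 1 + φ ⟨μ, hμ⟩) (Finset.univ.image φ)).card ≤ 2 ^ n := by
      refine (Polynomial.card_le_degree_of_subset_roots (p := Polynomial.X ^ 2 ^ n - Polynomial.X) fun x hx => ?_).trans
        (le_of_eq (natDegree_X_pow_sub_X hq1))
      rw [Polynomial.mem_roots (X_pow_sub_X_ne hq1), Polynomial.IsRoot.def, Polynomial.eval_sub,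
        Polynomial.eval_pow, Polynomial.eval_X, sub_eq_zero]
      rcases Finset.mem_insert.1 hx with rfl | hx
      · exact hsum
      · obtain ⟨y, -, rfl⟩ := Finset.mem_image.1 hx
        exact hfix y
    rw [Finset.card_insert_of_notMem (by simpa using hne), Finset.card_image_of_injective _ φ_inj,
      Finset.card_univ, ← Nat.card_eq_fintype_card, hF] at hle
    omega
  refine ⟨ν, ν.2, ?_⟩
  have := congrArg Additive.toMul
    (DFunLike.congr_fun (congrArg Subtype.val hν) (Additive.ofMul u))
  have h' : e.symm ((ν : L) * e u) = e.symm ((1 : L) * e u) * e.symm (μ * e u) := this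
  rw [one_mul, e.symm_apply_apply] at h'
  rw [← h', e.apply_symm_apply]
where
  X_pow_sub_X_ne {R : Type _} [CommRing R] [Nontrivial R] {m : ℕ} (hm : 1 < m) :
      (Polynomial.X ^ m - Polynomial.X : Polynomial R) ≠ 0 :=
    (Polynomial.monic_X_pow_sub (by rw [Polynomial.degree_X]; exact_mod_cast hm)).ne_zero
  natDegree_X_pow_sub_X {R : Type _} [CommRing R] [Nontrivial R] {m : ℕ} (hm : 1 < m) :
      (Polynomial.X ^ m - Polynomial.X : Polynomial R).natDegree = m := by
    refine Polynomial.natDegree_eq_of_degree_eq_some ?_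
    rw [Polynomial.degree_sub_eq_left_of_degree_lt] <;> simp [hm]

end

end CfsgLib.Lie.RankOneClass.Ident
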