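import Cfsg.Agent.Lib.Lie.RankOneClass.Ident.Cosets
import Cfsg.Agent.Lib.Lie.RankOneClass.Ident.Quotient

/-!
Owner: helper20 (slice H). Unital coordinates `(X, z)`, `X + X̄ + z z̄ = 0`, for the points other
than `a`, and the labels `z` of the elements of `Q`: modulo the involutions they form an elementary
abelian group in which the lines over `F` are subgroups.
-/

set_option autoImplicit false
set_option linter.all false

namespace CfsgLib.Lie.RankOneClass.Ident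

open MulAction CfsgLib.Lie.RankOne Matrix CfsgLib.Classical.Herm
open scoped Pointwise

variable {L : Type} [Field L] {σ : L →+* L}

/-- A finite point of the unital. -/
def OnU (σ : L →+* L) (p : L × L) : Prop := p.1 + σ p.1 + p.2 * σ p.2 = 0

/-- The translation by `s`. -/
def trS (σ : L →+* L) (s p : L × L) : L × L := (p.1 + s.1 + σ s.2 * p.2, p.2 + s.2)

theorem trS_trS (s' s'' p : L × L) :
    trS σ s' (trS σ s'' p) = trS σ (trS σ s' s'') p := by
  simp only [trS, map_add]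
  exact Prod.ext (by ring) (by ring)

theorem OnU.fst_fix [CharP L 2] {p : L × L} (h : OnU σ p) (hz : p.2 = 0) : σ p.1 = p.1 := by
  unfold OnU at h
  rw [hz, zero_mul, add_zero] at h
  exact (eq_of_add h).symm

theorem OnU.fst_ne [CharP L 2] {p : L × L} (h : OnU σ p) (hz : p.2 ≠ 0) : p.1 ≠ 0 := by
  intro hx
  unfold OnU at h
  rw [hx, map_zero, add_zero, zero_add] at h
  exact (mul_ne_zero hz ((map_ne_zero σ).2 hz)) h

variable {G Ω : Type*} [Group G] [MulAction G Ω] {a : Ω} {t : G} {Q : Subgroup G}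
  [Finite G] [FaithfulSMul G Ω] [Fintype L] [CharP L 2] [Fintype (fixedSub σ)]

local notation "𝔇" => ((stabilizer G a ⊓ stabilizer G (t • a)) : Subgroup G)

namespace UData

variable (U : UData G Ω a t Q L σ)

include U

/-- The point with coordinates `p`. -/
noncomputable def Phi (p : L × L) : Ω :=
  haveI := Classical.propDecidable (p.2 = 0)
  haveI := Classical.propDecidable (σ p.1 = p.1)
  if p.2 = 0 then (if h : σ p.1 = p.1 then U.D.C.z ⟨p.1, h⟩ • (t • a) else a)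
  else U.pt (p.1 / p.2, 1 / p.2)

theorem Phi_zero {p : L × L} (hz : p.2 = 0) (h : σ p.1 = p.1) :
    U.Phi p = U.D.C.z ⟨p.1, h⟩ • (t • a) := by rw [Phi, if_pos hz, dif_pos h]

theorem Phi_ne {p : L × L} (hz : p.2 ≠ 0) : U.Phi p = U.pt (p.1 / p.2, 1 / p.2) := by
  rw [Phi, if_neg hz]

theorem Phi_line (x : fixedSub σ) : U.Phi ((x : L), 0) = U.D.C.z x • (t • a) :=
  U.Phi_zero (p := ((x : L), 0)) rfl x.2

theorem Phi_origin : U.Phi (0, 0) = t • a := by
  rw [show ((0 : L), (0 : L)) = (((0 : fixedSub σ) : L), 0) from rfl, U.Phi_line, U.D.C.z_zero,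
    one_smul]

theorem tr_of_onU {p : L × L} (h : OnU σ p) (hz : p.2 ≠ 0) :
    tr σ (p.1 / p.2, 1 / p.2) = 1 := by
  have hz' : σ p.2 ≠ 0 := (map_ne_zero σ).2 hz
  unfold OnU at h
  simp only [tr, map_div₀, map_one]
  field_simp
  linear_combination h - (p.2 * σ p.2) * two_L (L := L)

theorem Phi_ne_a {p : L × L} (h : OnU σ p) : U.Phi p ≠ a := by
  by_cases hz : p.2 = 0
  · rw [U.Phi_zero hz (h.fst_fix hz)]; exact U.D.z_smul_ne _
  · rw [U.Phi_ne hz]
    intro e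
    have := U.pt_notMem (p.1 / p.2, 1 / p.2)
    rw [e] at this
    exact this U.D.mem_line_a

theorem Phi_mem_line {p : L × L} (h : OnU σ p) : U.Phi p ∈ U.D.line ↔ p.2 = 0 := by
  refine ⟨fun hm => ?_, fun hz => ?_⟩
  · by_contra hz
    rw [U.Phi_ne hz] at hm
    exact U.pt_notMem _ hm
  · rw [U.Phi_zero hz (h.fst_fix hz)]
    exact Or.inr ⟨_, rfl⟩

theorem Phi_inj {p p' : L × L} (h : OnU σ p) (h' : OnU σ p') (e : U.Phi p = U.Phi p') : p = p' := by
  by_cases hz : p.2 = 0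
  · have hz' : p'.2 = 0 := (U.Phi_mem_line h').1 (e ▸ (U.Phi_mem_line h).2 hz)
    rw [U.Phi_zero hz (h.fst_fix hz), U.Phi_zero hz' (h'.fst_fix hz')] at e
    exact Prod.ext (congrArg Subtype.val (U.D.z_pt_inj e)) (hz.trans hz'.symm)
  · have hz' : p'.2 ≠ 0 := fun hz' => hz ((U.Phi_mem_line h).1 (e ▸ (U.Phi_mem_line h').2 hz'))
    rw [U.Phi_ne hz, U.Phi_ne hz'] at e
    have e' := U.pt_inj (U.tr_of_onU h hz) (U.tr_of_onU h' hz') e
    have e1 : p.1 / p.2 = p'.1 / p'.2 := congrArg Prod.fst e'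
    have e2 : p.2 = p'.2 := by
      have : 1 / p.2 = 1 / p'.2 := congrArg Prod.snd e'
      simpa using this
    rw [e2, div_left_inj' hz'] at e1
    exact Prod.ext e1 e2

theorem exists_Phi {ω : Ω} (hω : ω ≠ a) : ∃ p, OnU σ p ∧ U.Phi p = ω := by
  by_cases hl : ω ∈ U.D.line
  · obtain ⟨x, rfl⟩ := hl.resolve_left hω
    refine ⟨((x : L), 0), ?_, U.Phi_line x⟩
    show (x : L) + σ x + 0 * σ 0 = 0
    rw [sigma_coe, zero_mul, add_zero, add_self_L]
  · obtain ⟨γ, hγ, rfl⟩ := U.pt_surj hl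
    have h2 : γ.2 ≠ 0 := fun h => by simp [tr, h] at hγ
    have h2' : σ γ.2 ≠ 0 := (map_ne_zero σ).2 h2
    refine ⟨(γ.1 / γ.2, 1 / γ.2), ?_, ?_⟩
    · unfold tr at hγ
      show γ.1 / γ.2 + σ (γ.1 / γ.2) + 1 / γ.2 * σ (1 / γ.2) = 0
      rw [map_div₀, map_div₀, map_one]
      field_simp
      linear_combination hγ + two_L (L := L)
    · rw [U.Phi_ne (p := (γ.1 / γ.2, 1 / γ.2)) (one_div_ne_zero h2)]
      congr 1
      refine Prod.ext ?_ ?_ <;> field_simp

/-- The coordinates of a point. -/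
noncomputable def crd (ω : Ω) : L × L :=
  haveI := Classical.propDecidable (ω ≠ a)
  if h : ω ≠ a then (U.exists_Phi h).choose else (0, 0)

theorem crd_spec {ω : Ω} (h : ω ≠ a) : OnU σ (U.crd ω) ∧ U.Phi (U.crd ω) = ω := by
  rw [crd, dif_pos h]; exact (U.exists_Phi h).choose_spec

theorem crd_Phi {p : L × L} (h : OnU σ p) : U.crd (U.Phi p) = p :=
  U.Phi_inj (U.crd_spec (U.Phi_ne_a h)).1 h (U.crd_spec (U.Phi_ne_a h)).2

theorem onU_shift {p : L × L} (h : OnU σ p) (x : fixedSub σ) : OnU σ (p.1 + x, p.2) := by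
  unfold OnU at *
  show p.1 + x + σ (p.1 + x) + p.2 * σ p.2 = 0
  rw [map_add, sigma_coe]
  linear_combination h + (x : L) * two_L (L := L)

theorem z_Phi (x : fixedSub σ) {p : L × L} (h : OnU σ p) :
    U.D.C.z x • U.Phi p = U.Phi (p.1 + x, p.2) := by
  by_cases hz : p.2 = 0
  · have hx := h.fst_fix hz
    have hx' : σ (p.1 + x) = p.1 + x := by rw [map_add, hx, sigma_coe]
    rw [U.Phi_zero hz hx, U.Phi_zero (p := (p.1 + x, p.2)) hz hx', ← mul_smul, ← U.D.C.z_add]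
    congr 2
    exact Subtype.ext (add_comm _ _)
  · rw [U.Phi_ne hz, U.Phi_ne (p := (p.1 + x, p.2)) hz, ← U.D.hom_z x,
      U.hom_pt _ (U.tr_of_onU h hz)]
    congr 1
    obtain ⟨e1, e2, e3, e4⟩ := U.D.mat_apply 1 x 0 1 (by ring)
    simp only [appL, e1, e2, e3, e4]
    refine Prod.ext ?_ ?_ <;> simp [add_div, div_eq_mul_inv, add_mul]

theorem t_Phi {p : L × L} (h : OnU σ p) (hx : p.1 ≠ 0) :
    t • U.Phi p = U.Phi (1 / p.1, p.2 / p.1) := by
  by_cases hz : p.2 = 0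
  · have hf := h.fst_fix hz
    have hf' : σ (1 / p.1) = 1 / p.1 := by rw [map_div₀, map_one, hf]
    rw [U.Phi_zero hz hf, U.Phi_zero (p := (1 / p.1, p.2 / p.1)) (by simp [hz]) hf']
    set x : fixedSub σ := ⟨p.1, hf⟩ with hxdef
    have hx0 : x ≠ 0 := fun e => hx (congrArg Subtype.val e)
    rw [show t • U.D.C.z x • (t • a) = (t * U.D.C.z x * t) • a by rw [mul_smul, mul_smul],
      U.D.t_z_t hx0, mul_smul, U.D.k_fix, mul_smul, U.D.z_fix, mul_smul]
    congr 2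
    exact Subtype.ext (by simp [hxdef])
  · rw [U.Phi_ne hz, U.Phi_ne (p := (1 / p.1, p.2 / p.1)) (div_ne_zero hz hx)]
    conv_lhs => arg 1; rw [← U.D.hom_t]
    rw [U.hom_pt _ (U.tr_of_onU h hz)]
    congr 1
    obtain ⟨e1, e2, e3, e4⟩ := U.D.mat_apply 0 1 1 0 (by ring)
    simp only [appL, e1, e2, e3, e4]
    refine Prod.ext ?_ ?_ <;> · simp; try field_simp

theorem k_Phi {μ : fixedSub σ} (hμ : μ ≠ 0) {p : L × L} (h : OnU σ p) :
    U.D.k (μ * μ) • U.Phi p = U.Phi ((μ : L) * μ * p.1, (μ : L) * p.2) := by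
  have hμ' : (μ : L) ≠ 0 := fun e => hμ (Subtype.ext e)
  by_cases hz : p.2 = 0
  · have hf := h.fst_fix hz
    have hf' : σ ((μ : L) * μ * p.1) = μ * μ * p.1 := by rw [map_mul, map_mul, sigma_coe, hf]
    rw [U.Phi_zero hz hf, U.Phi_zero (p := ((μ : L) * μ * p.1, (μ : L) * p.2)) (by simp [hz]) hf',
      ← mul_smul, U.D.k_z (mul_ne_zero hμ hμ), mul_smul, U.D.k_fix_b]
    rfl
  · rw [U.Phi_ne hz, U.Phi_ne (p := ((μ : L) * μ * p.1, (μ : L) * p.2)) (mul_ne_zero hμ' hz),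
      ← U.D.hom_k hμ, U.hom_pt _ (U.tr_of_onU h hz)]
    congr 1
    obtain ⟨e1, e2, e3, e4⟩ := U.D.mat_apply μ 0 0 μ⁻¹ (by simp [hμ])
    simp only [appL, e1, e2, e3, e4]
    refine Prod.ext ?_ ?_ <;> · simp; try field_simp

theorem zeta_norm : U.ζ * σ U.ζ = 1 := (U.W_pt U.hw0 U.heig).1

theorem zeta_ne : U.ζ ≠ 0 := fun h => by simpa [h] using U.zeta_norm

theorem w0_Phi {p : L × L} (h : OnU σ p) : U.w0 • U.Phi p = U.Phi (p.1, p.2 / U.ζ) := by
  by_cases hz : p.2 = 0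
  · rw [U.fix_iff'.2 ((U.Phi_mem_line h).2 hz), show (p.1, p.2 / U.ζ) = p from
      Prod.ext rfl (by simp [hz])]
  · rw [U.Phi_ne hz, U.Phi_ne (p := (p.1, p.2 / U.ζ)) (div_ne_zero hz U.zeta_ne),
      (U.W_pt U.hw0 U.heig).2 _ (U.tr_of_onU h hz)]
    congr 1
    have := U.zeta_ne
    simp only [sc]
    refine Prod.ext ?_ ?_ <;> field_simp

/-- The label of an element of `Q`. -/
noncomputable def lab (y : G) : L := (U.crd (y • (t • a))).2

theorem smul_b_ne {y : G} (hy : y ∈ Q) : y • (t • a) ≠ a := fun h =>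
  t_smul_ne U.D.hS (smul_left_cancel y (h.trans (Q_fix U.D.hS hy).symm))

theorem smul_b_eq {y : G} (hy : y ∈ Q) :
    OnU σ (U.crd (y • (t • a))) ∧ U.Phi (U.crd (y • (t • a))) = y • (t • a) :=
  U.crd_spec (U.smul_b_ne hy)

theorem Q_ext {y y' : G} (hy : y ∈ Q) (hy' : y' ∈ Q) (h : y • (t • a) = y' • (t • a)) : y = y' := by
  have := eq_one_of_fix_ta U.D.hS (mul_mem (inv_mem hy') hy) (by rw [mul_smul, h, inv_smul_smul])
  exact (inv_mul_eq_one.1 this).symm

theorem z_comm {y : G} (hy : y ∈ Q) (x : fixedSub σ) : y * U.D.C.z x = U.D.C.z x * y :=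
  U.D.C.Q_comm_z U.D.hS U.D.h2 hy x

theorem exists_Q (p : L × L) (h : OnU σ p) : ∃ y ∈ Q, y • (t • a) = U.Phi p :=
  exists_smul_eq_ta U.D.hS (U.Phi_ne_a h)

theorem exists_X (z : L) : ∃ X, OnU σ (X, z) := by
  obtain ⟨X, hX⟩ := U.hσ.exists_trace_eq (μ := z * σ z)
    (by rw [map_mul, U.hσ.invol, mul_comm])
  exact ⟨X, by show X + σ X + z * σ z = 0; rw [hX, add_self_L]⟩

theorem exists_lab (z : L) : ∃ y ∈ Q, U.lab y = z := by
  obtain ⟨X, hX⟩ := U.exists_X z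
  obtain ⟨y, hy, e⟩ := U.exists_Q _ hX
  exact ⟨y, hy, by rw [lab, e, U.crd_Phi hX]⟩

/-- Points with the same label differ by an involution of `G_a`. -/
theorem exists_shift {p p' : L × L} (h : OnU σ p) (h' : OnU σ p') (e : p.2 = p'.2) :
    ∃ x : fixedSub σ, U.Phi p' = U.D.C.z x • U.Phi p := by
  have hx : σ (p'.1 + p.1) = p'.1 + p.1 := by
    unfold OnU at h h'
    rw [map_add]
    rw [← e] at h'
    linear_combination h + h' - (p.2 * σ p.2 + p.1 + p'.1) * two_L (L := L)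
  refine ⟨⟨p'.1 + p.1, hx⟩, ?_⟩
  rw [U.z_Phi _ h]
  congr 1
  refine Prod.ext ?_ e.symm
  show p'.1 = p.1 + (p'.1 + p.1)
  linear_combination (-p.1) * two_L (L := L)

theorem lab_eq_iff {y y' : G} (hy : y ∈ Q) (hy' : y' ∈ Q) :
    U.lab y = U.lab y' ↔ ∃ x, y' = U.D.C.z x * y := by
  constructor
  · intro h
    obtain ⟨x, hx⟩ := U.exists_shift (U.smul_b_eq hy).1 (U.smul_b_eq hy').1 h
    rw [(U.smul_b_eq hy).2, (U.smul_b_eq hy').2] at hx
    replace hx : y' • (t • a) = (U.D.C.z x * y) • (t • a) := hx.trans (mul_smul _ _ _).symm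
    exact ⟨x, U.Q_ext hy' (mul_mem (U.D.C.z_mem_Q U.D.hS x) hy) hx⟩
  · rintro ⟨x, rfl⟩
    conv_rhs => rw [lab, mul_smul, ← (U.smul_b_eq hy).2, U.z_Phi x (U.smul_b_eq hy).1,
      U.crd_Phi (U.onU_shift (U.smul_b_eq hy).1 x)]
    rfl

theorem lab_one : U.lab 1 = 0 := by
  rw [lab, one_smul, ← U.Phi_origin, U.crd_Phi (by simp [OnU])]

theorem lab_mul_congr {y y' u u' : G} (hy : y ∈ Q) (hy' : y' ∈ Q) (hu : u ∈ Q) (hu' : u' ∈ Q)
    (h : U.lab y = U.lab y') (h' : U.lab u = U.lab u') : U.lab (y * u) = U.lab (y' * u') := by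
  obtain ⟨x, rfl⟩ := (U.lab_eq_iff hy hy').1 h
  obtain ⟨x', rfl⟩ := (U.lab_eq_iff hu hu').1 h'
  refine (U.lab_eq_iff (mul_mem hy hu) (mul_mem hy' hu')).2 ⟨x + x', ?_⟩
  rw [U.D.C.z_add]
  calc U.D.C.z x * y * (U.D.C.z x' * u) = U.D.C.z x * (y * U.D.C.z x') * u := by group
    _ = _ := by rw [U.z_comm hy]; group

theorem scal (s : L) (hs : s ∈ fixedSub σ ∨ s = U.ζ) (hs0 : s ≠ 0) :
    ∃ c ∈ 𝔇, ∀ y ∈ Q, U.lab (c * y * c⁻¹) = s * U.lab y := by
  rcases hs with hs | rfl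
  · set μ : fixedSub σ := ⟨s, hs⟩ with hμ
    have hμ0 : μ ≠ 0 := fun e => hs0 (congrArg Subtype.val e)
    refine ⟨U.D.k (μ * μ), U.D.k_mem_D _, fun y hy => ?_⟩
    have hb : (U.D.k (μ * μ))⁻¹ • (t • a) = t • a := inv_smul_eq_iff.2 (U.D.k_fix_b _).symm
    rw [lab, mul_smul, hb, mul_smul, ← (U.smul_b_eq hy).2, U.k_Phi hμ0 (U.smul_b_eq hy).1,
      U.crd_Phi]
    · rfl
    · have h := (U.smul_b_eq hy).1
      unfold OnU at *
      simp only [map_mul, sigma_coe]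
      linear_combination ((μ : L) * μ) * h
  · refine ⟨U.w0⁻¹, inv_mem (mem_Wg.1 U.hw0).1, fun y hy => ?_⟩
    set p := U.crd (y • (t • a)) with hp
    have h : OnU σ p := (U.smul_b_eq hy).1
    have h' : OnU σ (p.1, p.2 * U.ζ) := by
      unfold OnU at *
      simp only [map_mul]
      linear_combination h + (p.2 * σ p.2) * U.zeta_norm
    have e : U.w0⁻¹ • U.Phi p = U.Phi (p.1, p.2 * U.ζ) := by
      rw [inv_smul_eq_iff, U.w0_Phi h']
      congr 1
      exact Prod.ext rfl (by rw [mul_div_cancel_right₀ _ U.zeta_ne])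
    rw [lab, inv_inv, mul_smul, (mem_D.1 (mem_Wg.1 U.hw0).1).2, mul_smul, ← (U.smul_b_eq hy).2,
      ← hp, e, U.crd_Phi h']
    show p.2 * U.ζ = U.ζ * (U.crd (y • (t • a))).2
    rw [← hp, mul_comm]

/-- The elements of `Q` with label zero. -/
def zeroLab : Subgroup Q where
  carrier := {y | U.lab y = 0}
  one_mem' := U.lab_one
  mul_mem' := fun {y u} hy hu => by
    have := U.lab_mul_congr y.2 (one_mem Q) u.2 (one_mem Q) (hy.trans U.lab_one.symm)
      (hu.trans U.lab_one.symm)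
    rw [one_mul, U.lab_one] at this
    exact this
  inv_mem' := fun {y} hy => by
    have := U.lab_mul_congr (inv_mem y.2) (inv_mem y.2) y.2 (one_mem Q) rfl (hy.trans U.lab_one.symm)
    rw [inv_mul_cancel, U.lab_one, mul_one] at this
    exact this.symm

theorem mem_zeroLab {y : Q} : y ∈ U.zeroLab ↔ U.lab y = 0 := Iff.rfl

theorem zeroLab_normal : (U.zeroLab).Normal := ⟨fun y hy g => by
  obtain ⟨x, hx⟩ := (U.lab_eq_iff (one_mem Q) y.2).1 (U.lab_one.trans hy.symm)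
  rw [mul_one] at hx
  have : g * y * g⁻¹ = y := by
    refine mul_inv_eq_iff_eq_mul.2 (Subtype.ext ?_)
    show (g : G) * y = y * g
    rw [hx]; exact U.z_comm g.2 x
  rwa [this]⟩

theorem quotient_facts :
    (∀ y ∈ Q, U.lab (y * y) = 0) ∧ (∀ y ∈ Q, ∀ u ∈ Q, U.lab (y * u) = U.lab (u * y)) ∧
      ∀ y ∈ Q, ∀ u ∈ Q, ∀ μ : fixedSub σ, U.lab u = (μ : L) * U.lab y →
        ∃ ν : fixedSub σ, U.lab (y * u) = (ν : L) * U.lab y := by
  haveI := U.zeroLab_normal
  let e0 : Q ⧸ U.zeroLab → L := fun q => Quotient.liftOn' q (fun y : Q => U.lab y) fun y u h => by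
    rw [QuotientGroup.leftRel_apply] at h
    have := U.lab_mul_congr y.2 y.2 (y⁻¹ * u).2 (one_mem Q) rfl
      ((U.mem_zeroLab.1 h).trans U.lab_one.symm)
    rw [Subgroup.coe_mul, Subgroup.coe_inv, mul_inv_cancel_left, mul_one] at this
    exact this.symm
  have he0 : ∀ y : Q, e0 (y : Q ⧸ U.zeroLab) = U.lab y := fun y => rfl
  have hbij : Function.Bijective e0 := by
    constructor
    · intro q r h
      induction q using QuotientGroup.induction_on with | _ y => ?_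
      induction r using QuotientGroup.induction_on with | _ u => ?_
      refine QuotientGroup.eq.2 (U.mem_zeroLab.2 ?_)
      have := U.lab_mul_congr (inv_mem y.2) (inv_mem y.2) u.2 y.2 rfl h.symm
      rw [inv_mul_cancel, U.lab_one] at this
      exact this
    · intro z
      obtain ⟨y, hy, e⟩ := U.exists_lab z
      exact ⟨((⟨y, hy⟩ : Q) : Q ⧸ U.zeroLab), e⟩
  set e := Equiv.ofBijective e0 hbij with hedef
  have he : e 1 = 0 := U.lab_one
  haveI := U.D.C.charTwo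
  obtain ⟨n, -, hqn⟩ := FiniteField.card (fixedSub σ) 2
  have hn : 1 ≤ (n : ℕ) := n.2
  have hF : Nat.card (fixedSub σ) = 2 ^ (n : ℕ) := by rw [Nat.card_eq_fintype_card, hqn]
  have hL : Nat.card L = (2 ^ (n : ℕ)) ^ 2 := by rw [U.hσ.card_sq, hF]
  have hs : ∀ s : L, s ∈ fixedSub σ ∨ s = U.ζ → ∀ q r : Q ⧸ U.zeroLab,
      e.symm (s * e (q * r)) = e.symm (s * e q) * e.symm (s * e r) := by
    intro s hs q r
    induction q using QuotientGroup.induction_on with | _ y => ?_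
    induction r using QuotientGroup.induction_on with | _ u => ?_
    by_cases hs0 : s = 0
    · simp only [hs0, zero_mul]
      rw [← he, e.symm_apply_apply, one_mul]
    obtain ⟨c, hc, hcl⟩ := U.scal s hs hs0
    let cj : Q → Q := fun v => ⟨c * v * c⁻¹, Q_conj U.D.hS hc v.2⟩
    have key : ∀ v : Q, e.symm (s * e (v : Q ⧸ U.zeroLab)) = ((cj v : Q) : Q ⧸ U.zeroLab) := fun v => by
      rw [Equiv.symm_apply_eq]
      exact (hcl v v.2).symm
    rw [← QuotientGroup.mk_mul, key, key, key, ← QuotientGroup.mk_mul]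
    congr 1
    refine Subtype.ext ?_
    show c * ((y : G) * u) * c⁻¹ = c * y * c⁻¹ * (c * u * c⁻¹)
    group
  obtain ⟨hsq, hcomm⟩ := elementary e he hn hL (fixedSub σ) hF U.hζ hs
  refine ⟨fun y hy => ?_, fun y hy u hu => ?_, fun y hy u hu μ h => ?_⟩
  · exact (congrArg e (hsq ((⟨y, hy⟩ : Q) : Q ⧸ U.zeroLab))).trans he
  · exact congrArg e (hcomm ((⟨y, hy⟩ : Q) : Q ⧸ U.zeroLab) ((⟨u, hu⟩ : Q) : Q ⧸ U.zeroLab))
  · obtain ⟨ν, hν, h'⟩ := line_closed e he hn hL (fixedSub σ) hF U.hζ hs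
      ((⟨y, hy⟩ : Q) : Q ⧸ U.zeroLab) μ.2
    refine ⟨⟨ν, hν⟩, ?_⟩
    have h1 : e.symm ((μ : L) * e ((⟨y, hy⟩ : Q) : Q ⧸ U.zeroLab)) =
        ((⟨u, hu⟩ : Q) : Q ⧸ U.zeroLab) := by
      rw [Equiv.symm_apply_eq]
      exact h.symm
    rw [h1] at h'
    exact h'

end UData

end CfsgLib.Lie.RankOneClass.Ident
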