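import Cfsg.Agent.Lib.Lie.RankOneClass.Ident.Blocks
import Mathlib.LinearAlgebra.LinearIndependent.Basic

/-!
Owner: helper20 (slice H). The blocks related to the line are the orbits of the scalars of norm one,
every point off a block lies in exactly one block related to it, and the orbit of a vector is related
to the orbit of its conjugate.
-/

set_option autoImplicit false
set_option linter.all false

namespace CfsgLib.Lie.RankOneClass.Ident

open MulAction CfsgLib.Lie.RankOne Matrix CfsgLib.Classical.Herm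
open scoped Pointwise

/-- An element of prime order `l` normalising the group of another element of order `l` commutes
with it. -/
theorem commute_of_normalizes {G : Type*} [Group G] {l : ℕ} (hl : l.Prime) {x y : G}
    (hx : orderOf x = l) (hy : y ^ l = 1) {i : ℕ} (h : y * x * y⁻¹ = x ^ i) : y * x = x * y := by
  haveI := Fact.mk hl
  have key : ∀ n : ℕ, y ^ n * x * (y ^ n)⁻¹ = x ^ i ^ n := fun n => by
    induction n with
    | zero => simp
    | succ n ih =>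
      calc y ^ (n + 1) * x * (y ^ (n + 1))⁻¹ = y * (y ^ n * x * (y ^ n)⁻¹) * y⁻¹ := by
            rw [pow_succ']; group
        _ = x ^ i ^ (n + 1) := by rw [ih, ← conj_pow, h, ← pow_mul, pow_succ']
  have h1 := key l
  rw [hy, one_mul, inv_one, mul_one] at h1
  have h2 : i ^ l ≡ 1 [MOD l] := by
    rw [← hx]
    exact pow_eq_pow_iff_modEq.1 (by rw [pow_one, hx]; exact h1.symm)
  have h3 : i ≡ 1 [MOD l] := by
    rw [← ZMod.natCast_eq_natCast_iff] at h2 ⊢
    rwa [Nat.cast_pow, ZMod.pow_card] at h2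
  have h4 : x ^ i = x := by
    conv_rhs => rw [← pow_one x]
    exact pow_eq_pow_iff_modEq.2 (by rw [hx]; exact h3)
  rw [h4] at h
  exact mul_inv_eq_iff_eq_mul.1 h

/-- A semilinear map of order dividing the order of its automorphism has a fixed vector. -/
theorem exists_fixed_semilinear {F : Type*} [Field F] {l : ℕ} (hl : l.Prime) {τ : F ≃+* F}
    (hτ : τ ≠ 1) (hτl : τ ^ l = 1) (T : F × F → F × F) (hadd : ∀ x y, T (x + y) = T x + T y)
    (hsmul : ∀ (c : F) x, T (c • x) = τ c • T x) (hT : ∀ x, T^[l] x = x) :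
    ∃ u : F × F, u ≠ 0 ∧ T u = u := by
  haveI := Fact.mk hl
  have hord : orderOf τ = l := orderOf_eq_prime hτl hτ
  let χ : Fin l → (F →* F) := fun i => ((τ ^ (i : ℕ)).toRingHom : F →* F)
  have hχ : Function.Injective χ := by
    intro i j h
    have e : τ ^ (i : ℕ) = τ ^ (j : ℕ) := RingEquiv.ext fun x => DFunLike.congr_fun h x
    exact Fin.ext (pow_injOn_Iio_orderOf (by rw [hord]; exact i.2) (by rw [hord]; exact j.2) e)
  have hli := Fintype.linearIndependent_iff.1 ((linearIndependent_monoidHom F F).comp χ hχ)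
    (fun i => (T^[(i : ℕ)] (1, 0)).1)
  obtain ⟨lam, hlam⟩ : ∃ lam : F, ∑ i : Fin l, (T^[(i : ℕ)] (1, 0)).1 * χ i lam ≠ 0 := by
    by_contra h
    push Not at h
    have h0 := hli (by
      funext lam
      simp only [Finset.sum_apply, Pi.smul_apply, smul_eq_mul, Function.comp_apply, Pi.zero_apply]
      exact h lam) ⟨0, hl.pos⟩
    simp at h0
  refine ⟨∑ i ∈ Finset.range l, (τ ^ i) lam • T^[i] (1, 0), fun h => hlam ?_, ?_⟩
  · have h1 := congrArg Prod.fst h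
    simp only [Prod.fst_sum, Prod.smul_fst, smul_eq_mul, Prod.fst_zero] at h1
    rw [Finset.sum_range] at h1
    exact (Finset.sum_congr rfl fun i _ => mul_comm _ _).trans h1
  · let f := AddMonoidHom.mk' T hadd
    obtain ⟨m, hm⟩ : ∃ m, l = m + 1 := ⟨l - 1, by have := hl.pos; omega⟩
    show f _ = _
    rw [map_sum]
    have step : ∀ i, f ((τ ^ i) lam • T^[i] (1, 0)) = (τ ^ (i + 1)) lam • T^[i + 1] (1, 0) :=
      fun i => by
        show T _ = _
        rw [hsmul, pow_succ', Function.iterate_succ_apply']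
        rfl
    rw [Finset.sum_congr rfl fun i _ => step i]
    conv_lhs => rw [hm, Finset.sum_range_succ]
    conv_rhs => rw [hm, Finset.sum_range_succ']
    congr 1
    rw [← hm, hτl, hT]
    simp

variable {G Ω : Type*} [Group G] [MulAction G Ω] {a : Ω} {t : G} {Q : Subgroup G}
  [Finite G] [FaithfulSMul G Ω] {L : Type} [Field L] [Fintype L] [CharP L 2] {σ : L →+* L}
  [Fintype (fixedSub σ)]

local notation "𝔇" => ((stabilizer G a ⊓ stabilizer G (t • a)) : Subgroup G)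

namespace UData

variable (U : UData G Ω a t Q L σ)

include U

/-- The orbit of the scalars of norm one on a vector. -/
def coset (γ : L × L) : Set Ω := {p | ∃ μ : L, μ * σ μ = 1 ∧ U.pt (sc μ γ) = p}

theorem mem_coset (γ : L × L) : U.pt γ ∈ U.coset γ := ⟨1, by simp, by rw [sc_one]⟩

theorem tr_sc_one {γ : L × L} (hγ : tr σ γ = 1) {μ : L} (hμ : μ * σ μ = 1) :
    tr σ (sc μ γ) = 1 := by rw [tr_sc, hμ, hγ, one_mul]

omit U in
theorem tr_conj (U : UData G Ω a t Q L σ) {γ : L × L} (hγ : tr σ γ = 1) :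
    tr σ (σ γ.1, σ γ.2) = 1 := by
  rw [← hγ]
  simp only [tr, U.hσ.invol]
  ring

theorem hom_smul_coset (M : SpecialLinearGroup (Fin 2) (fixedSub σ)) {γ : L × L}
    (hγ : tr σ γ = 1) : U.D.hom M • U.coset γ = U.coset (appL M γ) := by
  ext p
  constructor
  · rintro ⟨_, ⟨μ, hμ, rfl⟩, rfl⟩
    refine ⟨μ, hμ, ?_⟩
    show _ = U.D.hom M • U.pt (sc μ γ)
    rw [U.hom_pt M (U.tr_sc_one hγ hμ), appL_sc]
  · rintro ⟨μ, hμ, rfl⟩
    refine ⟨U.pt (sc μ γ), ⟨μ, hμ, rfl⟩, ?_⟩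
    show U.D.hom M • U.pt (sc μ γ) = _
    rw [U.hom_pt M (U.tr_sc_one hγ hμ), appL_sc]

/-- The structure of a block related to the line. -/
theorem rel_line_data {g : G} (h : U.Rel U.D.line (g • U.D.line)) :
    ∃ γ : L × L, tr σ γ = 1 ∧ g • U.D.line = U.coset γ ∧
      (g * U.w0 * g⁻¹) • U.coset (σ γ.1, σ γ.2) ⊆ U.coset (σ γ.1, σ γ.2) := by
  obtain ⟨hB, hdisj, hfix⟩ := U.rel_line_iff.1 h
  set w' := g * U.w0 * g⁻¹ with hw'
  have hord' : orderOf w' = U.l := by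
    rw [hw', show g * U.w0 * g⁻¹ = MulAut.conj g U.w0 from rfl, MulEquiv.orderOf_eq, U.hord]
  have hw'l : w' ^ U.l = 1 := by rw [← hord', pow_orderOf_eq_one]
  have hcomm : U.w0 * w' = w' * U.w0 := by
    obtain ⟨i, hi⟩ := U.conj_pow_of_smul_eq (g := g) (g' := U.w0 * g) (by rw [mul_smul, hfix])
    exact commute_of_normalizes U.hl hord' U.w0_pow (i := i) (by rw [← hi, hw']; group)
  have hline : w' • U.D.line = U.D.line := U.D.smul_line_eq fun p hp => U.fix_iff'.1 (by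
    rw [← mul_smul, hcomm, mul_smul, U.fix_iff'.2 hp])
  obtain ⟨M₀, d, hd, hwd⟩ := U.D.stab_decomp hline
  obtain ⟨v, hv, k, hk, rfl⟩ := exists_split U.D.hS hd
  obtain ⟨l', rfl⟩ := U.D.C.k_surj k hk
  set vv : Vg (a := a) t := ⟨v, hv⟩ with hvv
  obtain ⟨M, hM⟩ : ∃ M, w' = U.D.hom M * v := by
    have hkl : U.D.C.k l' ∈ U.D.lineGroup := U.D.k_units l' ▸ U.D.k_mem_lineGroup _
    obtain ⟨P, hP⟩ := U.D.exists_hom₀ hkl
    refine ⟨M₀ * SpecialLinearGroup.map (U.D.autV vv : fixedSub σ →+* fixedSub σ) P, ?_⟩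
    rw [hwd, map_mul, ← U.D.Vg_hom, hom_eq U.D P, hP]
    show _ = U.D.hom M₀ * (v * U.D.C.k l' * v⁻¹) * v
    group
  set τ := U.D.autV vv with hτ
  let T : fixedSub σ × fixedSub σ → fixedSub σ × fixedSub σ := fun x => app M (τ x.1, τ x.2)
  have hTadd : ∀ x y, T (x + y) = T x + T y := fun x y => by
    simp only [T, app, Prod.fst_add, Prod.snd_add, map_add, Prod.mk_add_mk]
    exact Prod.ext (by ring) (by ring)
  have hiter : ∀ n : ℕ, ∃ P, w' ^ n = U.D.hom P * v ^ n ∧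
      ∀ x, T^[n] x = app P ((τ ^ n) x.1, (τ ^ n) x.2) := fun n => by
    induction n with
    | zero => exact ⟨1, by simp, fun x => by simp [app_one]⟩
    | succ n ih =>
      obtain ⟨P, hP, hPx⟩ := ih
      refine ⟨M * SpecialLinearGroup.map (τ : fixedSub σ →+* fixedSub σ) P, ?_, fun x => ?_⟩
      · rw [pow_succ', hP, hM, map_mul, ← U.D.Vg_hom, pow_succ' v]
        show _ = U.D.hom M * (v * U.D.hom P * v⁻¹) * (v * v ^ n)
        group
      · rw [Function.iterate_succ_apply', hPx, pow_succ']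
        show app M _ = _
        rw [app_mul]
        congr 1
        simp [app]
  obtain ⟨P, hP, hPx⟩ := hiter U.l
  rw [hw'l] at hP
  have hvl : v ^ U.l = 1 := by
    have hmem : v ^ U.l = U.D.hom P⁻¹ := by
      rw [map_inv, eq_inv_iff_mul_eq_one]
      have h1 : U.D.hom P * v ^ U.l = 1 := hP.symm
      exact mul_eq_one_comm.1 h1
    have hVl := pow_mem hv U.l
    obtain ⟨ha, hb⟩ := mem_D.1 (mem_Vg.1 hVl).1
    set R := P⁻¹ with hR
    have h10 : ((1 : fixedSub σ), (0 : fixedSub σ)) ≠ 0 := by simp [Prod.ext_iff]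
    have r10 : R 1 0 = 0 := by
      by_contra hne
      have e : U.D.hom R • U.D.ptv ((1 : fixedSub σ), (0 : fixedSub σ)) = a :=
        (congrArg (U.D.hom R • ·) (U.D.ptv_zero (w := ((1 : fixedSub σ), (0 : fixedSub σ))) rfl)).trans
          (by show U.D.hom R • a = a; rw [← hmem, ha])
      rw [U.D.hom_act R h10, U.D.ptv_ne (by simpa [app] using hne)] at e
      exact U.D.z_smul_ne _ e
    obtain ⟨r0, hRk⟩ := U.D.hom₀_of_upper r10
    have hx0 : R 0 0 * R 0 1 = 0 := by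
      refine U.D.z_pt_inj ?_
      rw [U.D.C.z_zero, one_smul]
      conv_rhs => rw [← hb, hmem, hRk, mul_smul, U.D.k_fix_b]
    rw [hRk, hx0, U.D.C.z_zero, one_mul] at hmem
    rw [hmem] at hVl ⊢
    exact eq_one_of_Vg_K U.D.hS hVl (U.D.k_mem (mul_ne_zero r0 r0))
  have hτl : τ ^ U.l = 1 := by
    rw [hτ, LineData.autV, ← map_pow]
    convert map_one U.D.C.aut
    exact Subtype.ext (by simpa using hvl)
  have hT : ∀ x, T^[U.l] x = x := fun x => by
    have hP1 : P = 1 := U.D.hom_injective (by rw [map_one]; rw [hvl, mul_one] at hP; exact hP.symm)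
    rw [hPx, hτl, hP1, app_one]
    simp
  have hw'ptv : ∀ x : fixedSub σ × fixedSub σ, x ≠ 0 → w' • U.D.ptv x = U.D.ptv (T x) := fun x hx => by
    rw [hM, mul_smul, show (v : G) = (vv : G) from rfl, U.D.Vg_ptv, U.D.hom_act]
    intro h0
    exact hx (Prod.ext ((map_eq_zero τ).1 (congrArg Prod.fst h0))
      ((map_eq_zero τ).1 (congrArg Prod.snd h0)))
  have hτ1 : τ = 1 := by
    by_contra hne
    obtain ⟨u, hu, hTu⟩ := exists_fixed_semilinear U.hl hne hτl T hTadd (fun c x => by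
      simp only [T, app, Prod.smul_fst, Prod.smul_snd, smul_eq_mul, map_mul, Prod.smul_mk]
      exact Prod.ext (by ring) (by ring)) hT
    exact Set.disjoint_left.1 hdisj (U.D.ptv_mem u)
      ((U.fix_conj_iff g).1 (by rw [← hw', hw'ptv u hu, hTu]))
  have hvW : v ∈ Wg a t := (U.D.C.aut_Vg_eq_one U.D.hS hv).1 hτ1
  have hvcomm : v * U.w0 = U.w0 * v := by
    have h1 := U.D.W_comm U.hw0 (U.D.hom_mem M)
    apply mul_left_cancel (a := U.D.hom M)
    calc U.D.hom M * (v * U.w0) = w' * U.w0 := by rw [hM, mul_assoc]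
      _ = U.w0 * (U.D.hom M * v) := by rw [← hcomm, hM]
      _ = U.D.hom M * (U.w0 * v) := by rw [← mul_assoc, h1, mul_assoc]
  obtain ⟨μ, hμ⟩ := U.scale_of_commute hvW U.hw0 hvcomm U.heig fun h => U.hζ (h ▸ one_mem _)
  obtain ⟨hμn, hvpt⟩ := U.W_pt hvW hμ
  have hw'pt : ∀ γ, tr σ γ = 1 → w' • U.pt γ = U.pt (sc μ (appL M γ)) := fun γ hγ => by
    rw [hM, mul_smul, hvpt γ hγ, U.hom_pt M (U.tr_sc_one hγ hμn), appL_sc]
  have hμ0 : μ ≠ 0 := fun h0 => by simp [h0] at hμn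
  obtain ⟨p₀, hp₀⟩ : (g • U.D.line).Nonempty := ⟨g • a, Set.smul_mem_smul_set U.D.mem_line_a⟩
  have hp₀n : p₀ ∉ U.D.line := fun h0 => Set.disjoint_left.1 hdisj h0 hp₀
  obtain ⟨γ, hγ, rfl⟩ := U.pt_surj hp₀n
  have hMγ : ∀ η : L × L, tr σ η = 1 → (w' • U.pt η = U.pt η ↔ appL M η = sc μ⁻¹ η) := fun η hη => by
    rw [hw'pt η hη]
    constructor
    · intro e
      have e' := U.pt_inj (by rw [tr_sc, hμn, one_mul, tr_appL, hη]) hη e
      rw [← e', sc_sc, e', inv_mul_cancel₀ hμ0, sc_one]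
    · intro e
      rw [e, sc_sc, mul_inv_cancel₀ hμ0, sc_one]
  have hMγ' := (hMγ γ hγ).1 ((U.fix_conj_iff g).2 hp₀)
  have hμ1 : μ⁻¹ ≠ 1 := by
    intro h1
    rw [inv_eq_one] at h1
    have hv1 : v = 1 := by
      refine U.rho_inj hvW (one_mem _) (U.ext_e ?_)
      rw [hμ, U.D.rho_one, appL_one, h1, sc_one]
    rw [hv1, mul_one] at hM
    have hfix' := (U.fix_conj_iff g).2 hp₀
    rw [← hw', hM] at hfix'
    have hw'1 : w' = 1 := by rw [hM, U.D.free hp₀n hfix', map_one]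
    exact U.hl.ne_one (by rw [← hord', hw'1, orderOf_one])
  refine ⟨γ, hγ, Set.ext fun p => ⟨fun hp => ?_, ?_⟩, ?_⟩
  · have hpn : p ∉ U.D.line := fun h0 => Set.disjoint_left.1 hdisj h0 hp
    obtain ⟨η, hη, rfl⟩ := U.pt_surj hpn
    have e := eq_sc_of_alt hγ (alt_eq_zero hμ1 hMγ' ((hMγ η hη).1 ((U.fix_conj_iff g).2 hp)))
    refine ⟨_, ?_, congrArg U.pt e.symm⟩
    have := congrArg (tr σ) e
    rw [tr_sc, hη, hγ, mul_one] at this
    exact this.symm
  · rintro ⟨ν, hν, rfl⟩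
    refine (U.fix_conj_iff g).1 ((hMγ _ (U.tr_sc_one hγ hν)).2 ?_)
    rw [appL_sc, hMγ', sc_sc, sc_sc, mul_comm]
  · rintro _ ⟨_, ⟨ν, hν, rfl⟩, rfl⟩
    show w' • U.pt _ ∈ _
    rw [hw'pt _ (U.tr_sc_one (tr_conj U hγ) hν), appL_sc]
    have hc : appL M (σ γ.1, σ γ.2) = sc (σ μ⁻¹) (σ γ.1, σ γ.2) := by
      have e1 := congrArg (fun p : L × L => σ p.1) hMγ'
      have e2 := congrArg (fun p : L × L => σ p.2) hMγ'
      simp only [appL, sc, map_add, map_mul, sigma_coe] at e1 e2 ⊢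
      exact Prod.ext e1 e2
    rw [hc, sc_sc, sc_sc]
    refine ⟨μ * ν * σ μ⁻¹, ?_, rfl⟩
    rw [map_mul, map_mul, U.hσ.invol]
    calc μ * ν * σ μ⁻¹ * (σ μ * σ ν * μ⁻¹) = (μ * μ⁻¹) * (σ μ⁻¹ * σ μ) * (ν * σ ν) := by ring
      _ = 1 := by rw [mul_inv_cancel₀ hμ0, ← map_mul, inv_mul_cancel₀ hμ0, map_one, hν]; ring
where
  hom_eq {F' : Type} [Field F'] [Fintype F'] (D : LineData G Ω a t Q F')
      (P : SpecialLinearGroup (Fin 2) F') : D.hom P = D.hom₀ P := rfl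

/-- Every orbit is related to the line. -/
theorem rel_line_coset {γ : L × L} (hγ : tr σ γ = 1) : U.Rel U.D.line (U.coset γ) := by
  obtain ⟨B, hB⟩ := U.exists_rel
  obtain ⟨g, rfl⟩ := (U.rel_line_iff.1 hB).1
  obtain ⟨γ₀, hγ₀, he, -⟩ := U.rel_line_data hB
  rw [he] at hB
  have e : appL (U.matOf γ * (U.matOf γ₀)⁻¹) γ₀ = γ := by
    conv_lhs => arg 2; rw [← U.matOf_spec hγ₀]
    rw [← appL_mul, inv_mul_cancel_right, U.matOf_spec hγ]
  have h := U.rel_smul hB (U.D.hom (U.matOf γ * (U.matOf γ₀)⁻¹))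
  rwa [U.hom_smul_coset _ hγ₀, e, U.D.lineGroup_smul_line (U.D.hom_mem _)] at h

theorem rel_line_eq {B : Set Ω} (h : U.Rel U.D.line B) {γ : L × L} (hγ : tr σ γ = 1)
    (hmem : U.pt γ ∈ B) : B = U.coset γ := by
  obtain ⟨g, rfl⟩ := (U.rel_line_iff.1 h).1
  obtain ⟨γ₀, hγ₀, he, -⟩ := U.rel_line_data h
  rw [he] at hmem ⊢
  obtain ⟨μ, hμ, e⟩ := hmem
  have e' := U.pt_inj (U.tr_sc_one hγ₀ hμ) hγ e
  subst e'
  have hμ0 : μ ≠ 0 := fun h0 => by simp [h0] at hμ
  ext p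
  constructor
  · rintro ⟨ν, hν, rfl⟩
    refine ⟨ν / μ, ?_, by rw [sc_sc, div_mul_cancel₀ _ hμ0]⟩
    rw [map_div₀, div_mul_div_comm, hν, hμ, div_one]
  · rintro ⟨ν, hν, rfl⟩
    refine ⟨ν * μ, ?_, by rw [sc_sc]⟩
    rw [map_mul]
    linear_combination (μ * σ μ) * hν + hμ

/-- Every point off a block lies in exactly one block related to it. -/
theorem existsUnique_rel {B : Set Ω} (hB : U.D.IsBlock B) {p : Ω} (hp : p ∉ B) :
    ∃! B', U.Rel B B' ∧ p ∈ B' := by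
  obtain ⟨g, rfl⟩ := hB
  rw [Set.mem_smul_set_iff_inv_smul_mem] at hp
  obtain ⟨γ, hγ, hpt⟩ := U.pt_surj hp
  refine ⟨g • U.coset γ, ⟨U.rel_smul (U.rel_line_coset hγ) g, ?_⟩, fun B' ⟨h1, h2⟩ => ?_⟩
  · rw [Set.mem_smul_set_iff_inv_smul_mem, ← hpt]
    exact U.mem_coset γ
  · have h := U.rel_smul h1 g⁻¹
    rw [inv_smul_smul] at h
    rw [← U.rel_line_eq h hγ (by rw [hpt]; exact Set.smul_mem_smul_set h2), smul_inv_smul]

/-- The orbit of a vector is related to the orbit of its conjugate. -/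
theorem rel_coset_conj {γ : L × L} (hγ : tr σ γ = 1) :
    U.Rel (U.coset γ) (U.coset (σ γ.1, σ γ.2)) := by
  haveI := (card_points U.D.hS).1
  have hrel := U.rel_line_coset hγ
  have hγ' : tr σ (σ γ.1, σ γ.2) = 1 := tr_conj U hγ
  have hB' := (U.rel_line_iff.1 (U.rel_line_coset hγ')).1
  obtain ⟨g, hg⟩ := (U.rel_line_iff.1 hrel).1
  have h := hrel
  rw [← hg] at h
  obtain ⟨γ₀, hγ₀, he, hsub⟩ := U.rel_line_data h
  have hmem : U.pt γ ∈ U.coset γ₀ := he ▸ hg.symm ▸ U.mem_coset γ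
  obtain ⟨μ, hμ, e⟩ := hmem
  have e' := U.pt_inj (U.tr_sc_one hγ₀ hμ) hγ e
  have hcc : U.coset (σ γ.1, σ γ.2) = U.coset (σ γ₀.1, σ γ₀.2) := by
    refine (U.rel_line_eq (U.rel_line_coset (tr_conj U hγ₀)) hγ' ⟨σ μ, ?_, ?_⟩).symm
    · rw [U.hσ.invol, mul_comm]; exact hμ
    · rw [← e']
      simp [sc]
  refine (U.rel_iff hg).2 ⟨hB', ?_, ?_⟩
  · rw [Set.disjoint_left]
    rintro _ ⟨ν, hν, rfl⟩ ⟨ν', hν', e2⟩
    have e3 := U.pt_inj (U.tr_sc_one hγ' hν') (U.tr_sc_one hγ hν) e2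
    have h1 : ν' * σ γ.1 = ν * γ.1 := congrArg Prod.fst e3
    have h2 : ν' * σ γ.2 = ν * γ.2 := congrArg Prod.snd e3
    have h3 : ν' * tr σ γ = 0 := by
      simp only [tr]
      linear_combination γ.1 * h2 + γ.2 * h1 + (ν * γ.1 * γ.2) * two_L (L := L)
    rw [hγ, mul_one] at h3
    rw [h3, zero_mul] at hν'
    exact zero_ne_one hν'
  · rw [hcc]
    refine Set.eq_of_subset_of_ncard_le hsub ?_ (Set.toFinite _)
    rw [Set.ncard_smul_set]

end UData

end CfsgLib.Lie.RankOneClass.Ident
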