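import Cfsg.Agent.Lib.Lie.RankOneClass.Ident.Line
import Cfsg.Agent.Lib.Classical.SL2Sylow

/-!
Owner: helper20 (slice H). The group `⟨Z, t⟩ = SL₂(F)` acts freely outside its line, hence
regularly when `|Q| = q ^ 3`.
-/

set_option autoImplicit false
set_option linter.all false

namespace CfsgLib.Lie.RankOneClass.Ident

open MulAction CfsgLib.Lie.RankOne Matrix Polynomial

/-- A `2 × 2` matrix over a finite field fixed by the Frobenius power has an eigenvector. -/
theorem exists_eigen {K : Type*} [Field K] [Fintype K] (M : Matrix (Fin 2) (Fin 2) K)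
    (hM : M ^ Fintype.card K = M) :
    ∃ c : K, ∃ v : Fin 2 → K, v ≠ 0 ∧ M.mulVec v = c • v := by
  have hq : 1 < Fintype.card K := Fintype.one_lt_card
  have hmonic : (X ^ Fintype.card K - X : K[X]).Monic :=
    monic_X_pow_sub (by rw [degree_X]; exact_mod_cast hq)
  have hprod : ∏ c : K, (X - C c) = X ^ Fintype.card K - X := by
    have h := prod_multiset_X_sub_C_of_monic_of_roots_card_eq hmonic (by
      rw [FiniteField.roots_X_pow_card_sub_X, FiniteField.X_pow_card_sub_X_natDegree_eq K hq]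
      exact Finset.card_univ)
    rw [FiniteField.roots_X_pow_card_sub_X] at h
    exact h
  have h0 : ∏ c : K, (M - Matrix.scalar (Fin 2) c).det = 0 := by
    have h := congrArg (fun p => (aeval M p).det) hprod
    simp only [map_prod, map_sub, map_pow, aeval_X, aeval_C, hM, sub_self] at h
    rw [Matrix.det_zero] at h
    refine Eq.trans ?_ h
    have e : ∀ s : Finset K, (aeval M (∏ c ∈ s, (X - C c))).det =
        ∏ c ∈ s, (M - Matrix.scalar (Fin 2) c).det := fun s => by
      induction s using Finset.cons_induction with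
      | empty => simp
      | cons x s hx ih => simp [Finset.prod_cons, ih, Matrix.algebraMap_eq_diagonal, Matrix.scalar]
    rw [← e]
  obtain ⟨c, -, hc⟩ := Finset.prod_eq_zero_iff.1 h0
  obtain ⟨v, hv, hv0⟩ := Matrix.exists_mulVec_eq_zero_iff.2 hc
  refine ⟨c, v, hv, ?_⟩
  rw [Matrix.sub_mulVec, sub_eq_zero] at hv0
  rw [hv0]
  ext i
  simp [Matrix.scalar, Matrix.mulVec_diagonal]

variable {G Ω : Type*} [Group G] [MulAction G Ω] {a : Ω} {t : G} {Q : Subgroup G}
  {F : Type} [Field F] [Fintype F]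

local notation "𝔇" => ((stabilizer G a ⊓ stabilizer G (t • a)) : Subgroup G)
local notation "𝔎" => Cfsg.invertedBy (stabilizer G a ⊓ stabilizer G (t • a)) t

theorem app_smul (M : SpecialLinearGroup (Fin 2) F) (c : F) (w : F × F) :
    app M (c * w.1, c * w.2) = (c * (app M w).1, c * (app M w).2) := by
  simp only [app]
  exact Prod.ext (by ring) (by ring)

theorem app_one (w : F × F) : app (1 : SpecialLinearGroup (Fin 2) F) w = w := by
  simp [app]

theorem app_inv_app (M : SpecialLinearGroup (Fin 2) F) (w : F × F) : app M⁻¹ (app M w) = w := by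
  rw [← app_mul, inv_mul_cancel, app_one]

theorem app_app_inv (M : SpecialLinearGroup (Fin 2) F) (w : F × F) : app M (app M⁻¹ w) = w := by
  rw [← app_mul, mul_inv_cancel, app_one]

namespace LineData

variable [Finite G] [FaithfulSMul G Ω] (D : LineData G Ω a t Q F)

include D

theorem exists_sq (l : F) : ∃ m, m * m = l := by
  haveI := D.C.charTwo
  obtain ⟨m, hm⟩ := FiniteField.isSquare_of_char_two (F := F)
    (ringChar.eq F 2) l
  exact ⟨m, hm.symm⟩

theorem add_ne_zero {x y : F} (h : x ≠ y) : x + y ≠ 0 := fun e => h (D.eq_of_add_eq_zero e)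

/-- `ptv` is invariant under scalars. -/
theorem ptv_smul {c : F} (hc : c ≠ 0) (w : F × F) : D.ptv (c * w.1, c * w.2) = D.ptv w := by
  by_cases h : w.2 = 0
  · rw [D.ptv_zero h, D.ptv_zero (by simp [h])]
  · rw [D.ptv_ne h, D.ptv_ne (w := (c * w.1, c * w.2)) (mul_ne_zero hc h),
      mul_div_mul_left _ _ hc]

theorem exists_col {w : F × F} (hw : w ≠ 0) :
    ∃ N : SpecialLinearGroup (Fin 2) F, app N (1, 0) = w := by
  by_cases h : w.1 = 0
  · have h2 : w.2 ≠ 0 := fun h2 => hw (Prod.ext h h2)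
    refine ⟨D.mat w.1 w.2⁻¹ w.2 0 (by simp [h2]), ?_⟩
    obtain ⟨e1, e2, e3, e4⟩ := D.mat_apply w.1 w.2⁻¹ w.2 0 (by simp [h2])
    simp [app, e1, e3]
  · refine ⟨D.mat w.1 0 w.2 w.1⁻¹ (by simp [h]), ?_⟩
    obtain ⟨e1, e2, e3, e4⟩ := D.mat_apply w.1 0 w.2 w.1⁻¹ (by simp [h])
    simp [app, e1, e3]

theorem exists_upper (M : SpecialLinearGroup (Fin 2) F) {w : F × F} (hw : w ≠ 0)
    (h : D.ptv (app M w) = D.ptv w) :
    ∃ N : SpecialLinearGroup (Fin 2) F, (N⁻¹ * M * N) 1 0 = 0 := by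
  obtain ⟨N, hN⟩ := D.exists_col hw
  refine ⟨N, ?_⟩
  have h10 : ((1 : F), (0 : F)) ≠ 0 := by simp [Prod.ext_iff]
  have e : D.ptv (app (N⁻¹ * M * N) (1, 0)) = a := by
    rw [app_mul, hN, app_mul, ← D.hom₀_act N⁻¹ (app_ne_zero M hw), h, D.hom₀_act N⁻¹ hw, ← hN,
      app_inv_app, D.ptv_zero rfl]
  by_contra hc
  rw [D.ptv_ne (by simpa [app] using hc)] at e
  exact D.z_smul_ne _ e

theorem hom₀_of_upper {M : SpecialLinearGroup (Fin 2) F} (h : M 1 0 = 0) :
    M 0 0 ≠ 0 ∧ D.hom M = D.C.z (M 0 0 * M 0 1) * D.k (M 0 0 * M 0 0) := by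
  have hdet := D.det_eq M
  rw [h, mul_zero, add_zero] at hdet
  exact ⟨left_ne_zero_of_mul_eq_one hdet, by rw [hom_apply, hom₀, if_pos h]⟩

theorem conj_z {l x : F} (hl : l ≠ 0) (hl1 : l ≠ 1) :
    D.C.z (x / (1 + l)) * (D.C.z x * D.k l) * D.C.z (x / (1 + l)) = D.k l := by
  have h1 : 1 + l ≠ 0 := D.add_ne_zero hl1.symm
  rw [mul_assoc, mul_assoc, D.k_z hl, ← mul_assoc, ← mul_assoc, ← D.C.z_add, ← D.C.z_add]
  rw [show x / (1 + l) + x + l * (x / (1 + l)) = 0 by
    field_simp
    linear_combination (x + x * l) * D.two_eq_zero, D.C.z_zero, one_mul]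

theorem notMem_smul {g : G} (hg : g ∈ D.lineGroup) {p : Ω} (hp : p ∉ D.line) : g • p ∉ D.line :=
  fun h => hp (by simpa [← mul_smul] using D.smul_line (inv_mem hg) h)

theorem hom_mem (M : SpecialLinearGroup (Fin 2) F) : D.hom M ∈ D.lineGroup := D.hom₀_mem M

theorem third_of_notMem {p : Ω} (hp : p ∉ D.line) : p ≠ a ∧ p ≠ t • a :=
  ⟨fun h => hp (h ▸ D.mem_line_a), fun h => hp (h ▸ D.mem_line_b)⟩

theorem k_fix_notMem {l : F} (hl : l ≠ 0) {p : Ω} (hp : p ∉ D.line) (h : D.k l • p = p) :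
    l = 1 :=
  D.k_eq_one hl (inverted_eq_one D.hS (D.k_mem hl)
    ⟨p, (D.third_of_notMem hp).1, (D.third_of_notMem hp).2, h⟩)

theorem z_fix_notMem {x : F} {p : Ω} (hp : p ∉ D.line) (h : D.C.z x • p = p) : x = 0 := by
  refine D.C.z_inj ((eq_one_of_fix D.hS (D.C.z_mem_Q D.hS x) (D.third_of_notMem hp).1 h).trans ?_)
  rw [D.C.z_zero]

theorem free_of_line {M : SpecialLinearGroup (Fin 2) F} {p : Ω} (hp : p ∉ D.line)
    (h : D.hom M • p = p) {w : F × F} (hw : w ≠ 0) (he : D.ptv (app M w) = D.ptv w) : M = 1 := by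
  obtain ⟨N, hN⟩ := D.exists_upper M hw he
  suffices hP : N⁻¹ * M * N = 1 by
    have := congrArg (fun x => N * x * N⁻¹) hP
    simpa [mul_assoc] using this
  set P := N⁻¹ * M * N with hPdef
  set p' := D.hom N⁻¹ • p with hp'
  have hp'n : p' ∉ D.line := D.notMem_smul (D.hom_mem _) hp
  have hfix : D.hom P • p' = p' := by
    rw [hp', ← mul_smul, ← map_mul, hPdef, mul_assoc, mul_inv_cancel, mul_one, map_mul, mul_smul, h]
  obtain ⟨h0, hM⟩ := D.hom₀_of_upper hN
  rw [hM] at hfix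
  set x := P 0 0 * P 0 1 with hx
  set l := P 0 0 * P 0 0 with hl
  have hl0 : l ≠ 0 := mul_ne_zero h0 h0
  refine D.hom_injective ?_
  rw [map_one, hM]
  by_cases hl1 : l = 1
  · rw [hl1, D.k_one, mul_one] at hfix ⊢
    rw [D.z_fix_notMem hp'n hfix, D.C.z_zero]
  · exfalso
    refine hl1 (D.k_fix_notMem hl0 (D.notMem_smul (D.z_mem_lineGroup (x / (1 + l))) hp'n) ?_)
    conv_lhs => rw [← D.conj_z (x := x) hl0 hl1, mul_smul, ← mul_smul (D.C.z (x / (1 + l))) _ p',
      D.z_self, one_smul, mul_smul, hfix]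

theorem pow_q_eq {M : SpecialLinearGroup (Fin 2) F} {p : Ω} (hp : p ∉ D.line)
    (h : D.hom M • p = p) (hno : ∀ w : F × F, w ≠ 0 → D.ptv (app M w) ≠ D.ptv w) :
    M ^ (Fintype.card F - 1) = 1 := by
  -- normal form
  have h10 : ((1 : F), (0 : F)) ≠ 0 := by simp [Prod.ext_iff]
  have hdet := D.det_eq M
  have hc : M 1 0 ≠ 0 := fun hc => hno (1, 0) h10 (by
    rw [D.ptv_zero (w := (1, 0)) rfl, D.ptv_zero]
    simp [app, hc])
  obtain ⟨s, hs⟩ := D.exists_sq (M 1 0)⁻¹
  have hs0 : s ≠ 0 := by rintro rfl; simp at hs; exact hc hs.symm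
  set N := D.mat s (s * M 0 0) 0 (s * M 1 0) (by
    rw [mul_zero, add_zero, ← mul_assoc, hs, inv_mul_cancel₀ hc]) with hNdef
  obtain ⟨n1, n2, n3, n4⟩ := D.mat_apply s (s * M 0 0) 0 (s * M 1 0) (by
    rw [mul_zero, add_zero, ← mul_assoc, hs, inv_mul_cancel₀ hc])
  rw [← hNdef] at n1 n2 n3 n4
  have hcol : app (N⁻¹ * M * N) (1, 0) = (0, 1) := by
    have e : app (M * N) (1, 0) = app N (0, 1) := by
      rw [app_mul]
      simp only [app, n1, n2, n3, n4]
      exact Prod.ext (by ring) (by ring)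
    rw [mul_assoc, app_mul, e, app_inv_app]
  set P := N⁻¹ * M * N with hPdef
  have p00 : P 0 0 = 0 := by simpa [app] using congrArg Prod.fst hcol
  have p10 : P 1 0 = 1 := by simpa [app] using congrArg Prod.snd hcol
  suffices hP : P ^ (Fintype.card F - 1) = 1 by
    have e : M = N * P * N⁻¹ := by rw [hPdef]; group
    rw [e, conj_pow, hP]; group
  set τ := P 1 1 with hτ
  have hh : D.hom P = t * D.C.z τ := by
    rw [hom_apply, hom₀, if_neg (by rw [p10]; exact one_ne_zero), p00, p10, zero_div,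
      D.C.z_zero, one_mul, one_mul, one_mul, D.k_one, mul_one]
  set p' := D.hom N⁻¹ • p with hp'
  have hp'n : p' ∉ D.line := D.notMem_smul (D.hom_mem _) hp
  have hfix : (t * D.C.z τ) • p' = p' := by
    rw [← hh, hp', ← mul_smul, ← map_mul, hPdef, mul_assoc, mul_inv_cancel, mul_one, map_mul,
      mul_smul, h]
  have hτ0 : τ ≠ 0 := by
    intro e
    have h11 : app N (1, 1) ≠ 0 := app_ne_zero N (by simp [Prod.ext_iff])
    refine hno _ h11 ?_
    rw [← D.hom_act M h11, show M = N * P * N⁻¹ by rw [hPdef]; group, map_mul, mul_smul,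
      D.hom_act N⁻¹ h11, app_inv_app, D.hom_act _ (by simp [Prod.ext_iff]), app_mul]
    congr 2
    have hd := D.det_eq P
    rw [p00, p10, zero_mul, zero_add, mul_one] at hd
    simp [app, p00, p10, hd, ← hτ, e]
  set u := D.C.z τ with hu
  have huu : u * u = 1 := D.z_self τ
  have hu1 : u ≠ 1 := fun e => hτ0 (D.C.z_inj (e.trans (D.C.z_zero).symm))
  have hne : u • p' ≠ p' := fun e => hτ0 (D.z_fix_notMem hp'n e)
  obtain ⟨g, hga, hgb⟩ := pairs D.hS (b := p') (c := u • p') (b' := a) (c' := t • a)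
    hne.symm (t_smul_ne D.hS).symm
  set h' := g * (t * u) * g⁻¹ with hh'
  set u' := g * u * g⁻¹ with hu'
  have hgi : g⁻¹ • a = p' := by rw [← hga, inv_smul_smul]
  have hgib : g⁻¹ • (t • a) = u • p' := by rw [← hgb, inv_smul_smul]
  have htp : t • p' = u • p' := by
    conv_lhs => rw [← hfix, ← mul_smul, ← mul_assoc, D.hS.mul_self, one_mul]
  have h'D : h' ∈ 𝔇 := mem_D.2 ⟨by rw [hh', mul_smul, hgi, mul_smul, hfix, hga],
    by rw [hh', mul_smul, hgib, mul_smul, mul_smul, ← mul_smul u u, huu, one_smul, htp, hgb]⟩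
  have hu'a : u' • a = t • a := by rw [hu', mul_smul, hgi, mul_smul, hgb]
  have hu'u : u' * u' = 1 := by rw [hu', conj_mul, huu, mul_one, mul_inv_cancel]
  obtain ⟨kl, hkl⟩ := D.C.k_surj _ (mem_K_of_swap D.hS hu'u hu'a)
  obtain ⟨m, hm⟩ := D.exists_sq (kl : F)
  have hm0 : m ≠ 0 := by rintro rfl; exact Units.ne_zero kl (by simpa using hm.symm)
  have hu't : u' = t * D.k (m * m) := by
    rw [hm, ← D.k_units, hkl, t_mul_t_mul D.hS]
  set k0 := D.k m with hk0
  have hk0t : u' = k0⁻¹ * t * k0 := by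
    rw [hu't, D.k_inv hm0, D.k_mul hm0 hm0, ← mul_assoc, D.t_k hm0]
  set h'' := k0 * h' * k0⁻¹ with hh''
  have hinv : u' * h' * u' = h'⁻¹ := by
    have hut : u * (t * u) * u = (t * u)⁻¹ := by
      rw [_root_.mul_inv_rev, inv_eq_of_mul_eq_one_right huu, t_inv D.hS]
      simp only [mul_assoc, huu, mul_one]
    calc u' * h' * u' = g * (u * (t * u) * u) * g⁻¹ := by rw [hu', hh']; group
      _ = h'⁻¹ := by rw [hut, hh']; group
  have hK : h'' ∈ 𝔎 := by
    refine ⟨mul_mem (mul_mem (D.k_mem_D m) h'D) (inv_mem (D.k_mem_D m)), ?_⟩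
    rw [t_inv D.hS]
    calc t * h'' * t = k0 * (u' * h' * u') * k0⁻¹ := by rw [hk0t, hh'']; group
      _ = h''⁻¹ := by rw [hinv, hh'']; group
  obtain ⟨l, hl⟩ := D.C.k_surj _ hK
  have hq : (t * u) ^ (Fintype.card F - 1) = 1 := by
    have e : h'' ^ (Fintype.card F - 1) = 1 := by
      rw [← hl]
      have hk : D.C.k (l ^ (Fintype.card F - 1)) = D.C.k l ^ (Fintype.card F - 1) :=
        map_pow (MonoidHom.mk' D.C.k D.C.k_mul) l _
      rw [← hk, ← D.C.k_one]
      congr 1
      exact Units.ext (by simpa using FiniteField.pow_card_sub_one_eq_one (l : F) (Units.ne_zero l))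
    rw [hh'', conj_pow, conj_eq_one_iff, hh', conj_pow, conj_eq_one_iff] at e
    exact e
  refine D.hom_injective ?_
  rw [map_pow, hh, hq, map_one]

/-- `⟨Z, t⟩` acts freely outside the line. -/
theorem free {M : SpecialLinearGroup (Fin 2) F} {p : Ω} (hp : p ∉ D.line)
    (h : D.hom M • p = p) : M = 1 := by
  by_cases hno : ∀ w : F × F, w ≠ 0 → D.ptv (app M w) ≠ D.ptv w
  · exfalso
    have hq : M.1 ^ Fintype.card F = M.1 := by
      have e := congrArg (fun x : SpecialLinearGroup (Fin 2) F => (x * M).1) (D.pow_q_eq hp h hno)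
      simp only [one_mul, ← pow_succ, Nat.sub_add_cancel Fintype.card_pos] at e
      simpa using e
    obtain ⟨c, v, hv, hMv⟩ := exists_eigen M.1 hq
    have hw : ((v 0, v 1) : F × F) ≠ 0 := fun e => hv (by
      funext i
      fin_cases i
      · exact congrArg Prod.fst e
      · exact congrArg Prod.snd e)
    have e : app M (v 0, v 1) = (c * v 0, c * v 1) := by
      have h0 := congrFun hMv 0
      have h1 := congrFun hMv 1
      simp [Matrix.mulVec, dotProduct, Fin.sum_univ_two] at h0 h1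
      exact Prod.ext h0 h1
    have hc : c ≠ 0 := fun hc => app_ne_zero M hw (by rw [e, hc]; simp)
    exact hno _ hw (by rw [e]; exact D.ptv_smul hc (v 0, v 1))
  · push Not at hno
    obtain ⟨w, hw, he⟩ := hno
    exact D.free_of_line hp h hw he

/-- The line as the image of `none` and the field. -/
theorem card_line : Nat.card D.line = Fintype.card F + 1 := by
  have e : D.line = Set.insert a (Set.range fun x => D.C.z x • (t • a)) := by
    ext p; simp [line, Set.insert]
  rw [e]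
  show ((insert a (Set.range fun x => D.C.z x • (t • a))) : Set Ω).ncard = _
  have ha : a ∉ Set.range fun x => D.C.z x • (t • a) := by
    rintro ⟨x, hx⟩
    exact D.z_smul_ne x hx
  rw [Set.ncard_insert_of_notMem ha (Set.finite_range _),
    Set.ncard_range_of_injective (fun x y => D.z_pt_inj), Nat.card_eq_fintype_card]

/-- Outside the line, `⟨Z, t⟩` is regular when `|Q| = q ^ 3`. -/
theorem regular (hN : Nat.card Q = Fintype.card F ^ 3) {c : Ω} (hc : c ∉ D.line) {p : Ω}
    (hp : p ∉ D.line) : ∃! M : SpecialLinearGroup (Fin 2) F, D.hom M • c = p := by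
  obtain ⟨hfin, hcard⟩ := card_points D.hS
  let f : SpecialLinearGroup (Fin 2) F → ↥(D.lineᶜ) :=
    fun M => ⟨D.hom M • c, D.notMem_smul (D.hom_mem M) hc⟩
  have hinj : Function.Injective f := fun M N e => by
    have e' : D.hom M • c = D.hom N • c := congrArg Subtype.val e
    have h1 : D.hom (N⁻¹ * M) • c = c := by
      rw [map_mul, map_inv, mul_smul, e', inv_smul_smul]
    exact (inv_mul_eq_one.1 (D.free hc h1)).symm
  have hbij : Function.Bijective f := by
    refine hinj.bijective_of_nat_card_le (le_of_eq ?_)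
    rw [CfsgLib.Classical.Two.card_SL_two, Nat.card_coe_set_eq, Set.ncard_compl,
      ← Nat.card_coe_set_eq, D.card_line, hcard, hN]
    have : 1 ≤ Fintype.card F ^ 2 := Nat.one_le_pow _ _ Fintype.card_pos
    zify [this, show Fintype.card F + 1 ≤ Fintype.card F ^ 3 + 1 by
      exact Nat.add_le_add_right (Nat.le_self_pow three_ne_zero _) 1]
    ring
  obtain ⟨M, hM⟩ := hbij.2 ⟨p, hp⟩
  exact ⟨M, congrArg Subtype.val hM, fun N hN' => hbij.1 (hM ▸ Subtype.ext hN')⟩

end LineData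

end CfsgLib.Lie.RankOneClass.Ident
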