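import Cfsg.Agent.Lib.Lie.RankOneClass.CoordFacts
import Mathlib.LinearAlgebra.Matrix.SpecialLinearGroup
import Mathlib.LinearAlgebra.Matrix.ToLinearEquiv
import Mathlib.FieldTheory.Finite.Basic

/-!
Owner: helper20 (slice H). The group generated by the involutions of `G_a` and `t` when
`t z₁ t = z₁ t z₁`: it is `SL₂(F)`, acting as such on the `q + 1` points `a`, `z x • t • a`, and
freely on all the other points.
-/

set_option autoImplicit false
set_option linter.all false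

namespace CfsgLib.Lie.RankOneClass.Ident

open MulAction CfsgLib.Lie.RankOne Matrix

variable {G Ω : Type*} [Group G] [MulAction G Ω] {a : Ω} {t : G} {Q : Subgroup G}
  {F : Type} [Field F] [Fintype F]

local notation "𝔇" => ((stabilizer G a ⊓ stabilizer G (t • a)) : Subgroup G)
local notation "𝔎" => Cfsg.invertedBy (stabilizer G a ⊓ stabilizer G (t • a)) t
local notation "𝔍" => Cfsg.involutionsIn (stabilizer G a : Set G)

/-- The standing hypotheses: coordinates with `t z₁ t = z₁ t z₁`. -/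
structure LineData (G Ω : Type*) [Group G] [MulAction G Ω] (a : Ω) (t : G) (Q : Subgroup G)
    (F : Type) [Field F] where
  hS : Cfsg.IsRankOneSetup G Ω a t Q
  h2 : ∃ x y : G, x ≠ 1 ∧ y ≠ 1 ∧ x ≠ y ∧ x * x = 1 ∧ y * y = 1 ∧ x * y = y * x
  C : Coord a t F
  rel : t * C.z 1 * t = C.z 1 * t * C.z 1

/-- The image of a matrix. -/
def app (M : SpecialLinearGroup (Fin 2) F) (w : F × F) : F × F :=
  (M 0 0 * w.1 + M 0 1 * w.2, M 1 0 * w.1 + M 1 1 * w.2)

theorem app_mul (M N : SpecialLinearGroup (Fin 2) F) (w : F × F) :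
    app (M * N) w = app M (app N w) := by
  have e : ∀ i j, (M * N) i j = M i 0 * N 0 j + M i 1 * N 1 j := fun i j =>
    (Matrix.mul_apply (M := M.1) (N := N.1)).trans (Fin.sum_univ_two _)
  simp only [app, e]
  refine Prod.ext ?_ ?_ <;> ring

theorem app_ne_zero (M : SpecialLinearGroup (Fin 2) F) {w : F × F} (hw : w ≠ 0) : app M w ≠ 0 := by
  intro h
  refine hw ?_
  have := congrArg (app M⁻¹) h
  rw [← app_mul, inv_mul_cancel] at this
  simpa [app, Prod.ext_iff] using this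

namespace LineData

variable [Finite G] [FaithfulSMul G Ω] (D : LineData G Ω a t Q F)

include D

/-- The inverted element with coordinate `l`, extended by `1` at zero. -/
noncomputable def k (l : F) : G :=
  haveI : DecidableEq F := Classical.decEq F
  if h : l = 0 then 1 else D.C.k (Units.mk0 l h)

theorem k_of_ne {l : F} (h : l ≠ 0) : D.k l = D.C.k (Units.mk0 l h) := by simp [k, h]

theorem k_units (l : Fˣ) : D.C.k l = D.k (l : F) := by
  rw [D.k_of_ne (Units.ne_zero l)]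
  simp

theorem k_one : D.k 1 = 1 := by
  rw [D.k_of_ne one_ne_zero]
  simpa using D.C.k_one

theorem k_mul {l m : F} (hl : l ≠ 0) (hm : m ≠ 0) : D.k (l * m) = D.k l * D.k m := by
  rw [D.k_of_ne hl, D.k_of_ne hm, D.k_of_ne (mul_ne_zero hl hm), ← D.C.k_mul]
  congr 1
  exact Units.ext rfl

theorem k_mem {l : F} (hl : l ≠ 0) : D.k l ∈ 𝔎 := by
  rw [D.k_of_ne hl]; exact D.C.k_mem _

theorem k_mem_D (l : F) : D.k l ∈ 𝔇 := by
  by_cases hl : l = 0
  · rw [k, dif_pos hl]; exact one_mem _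
  · exact (D.k_mem hl).1

theorem k_fix (l : F) : D.k l • a = a := (mem_D.1 (D.k_mem_D l)).1

theorem k_fix_b (l : F) : D.k l • (t • a) = t • a := (mem_D.1 (D.k_mem_D l)).2

theorem k_inv {l : F} (hl : l ≠ 0) : (D.k l)⁻¹ = D.k l⁻¹ := by
  refine inv_eq_of_mul_eq_one_right ?_
  rw [← D.k_mul hl (inv_ne_zero hl), mul_inv_cancel₀ hl, D.k_one]

theorem k_z {l : F} (hl : l ≠ 0) (x : F) : D.k l * D.C.z x = D.C.z (l * x) * D.k l := by
  rw [D.k_of_ne hl, show l * x = (Units.mk0 l hl : F) * x from rfl,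
    ← D.C.k_conj (Units.mk0 l hl) x, inv_mul_cancel_right]

theorem z_k {l : F} (hl : l ≠ 0) (x : F) : D.C.z x * D.k l = D.k l * D.C.z (l⁻¹ * x) := by
  rw [D.k_z hl, ← mul_assoc, mul_inv_cancel₀ hl, one_mul]

theorem t_k {l : F} (hl : l ≠ 0) : t * D.k l = D.k l⁻¹ * t := by
  have h := t_conj_inv D.hS (D.k_mem hl)
  rw [← D.k_inv hl, ← h, mul_assoc, mul_assoc, D.hS.mul_self, mul_one]

theorem k_eq_one {l : F} (hl : l ≠ 0) (h : D.k l = 1) : l = 1 := by
  have h1 : D.C.k (Units.mk0 l hl) = D.C.k 1 := by rw [← D.k_of_ne hl, h, D.C.k_one]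
  exact congrArg Units.val (D.C.k_inj h1)

theorem two_eq_zero : (2 : F) = 0 := by
  haveI := D.C.charTwo
  exact CharP.ofNat_eq_zero F 2

theorem add_self (x : F) : x + x = 0 := by linear_combination x * D.two_eq_zero

theorem eq_of_add_eq_zero {x y : F} (h : x + y = 0) : x = y := by
  linear_combination h - y * D.two_eq_zero

theorem z_self (x : F) : D.C.z x * D.C.z x = 1 := by rw [← D.C.z_add, D.add_self, D.C.z_zero]

theorem z_inv (x : F) : (D.C.z x)⁻¹ = D.C.z x := inv_eq_of_mul_eq_one_right (D.z_self x)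

theorem z_mul_z_mul (x : F) (g : G) : D.C.z x * (D.C.z x * g) = g := by
  rw [← mul_assoc, D.z_self, one_mul]

theorem z_fix (x : F) : D.C.z x • a = a := D.C.z_mem_stab x

theorem t_a : t • (t • a) = a := t_smul_ta D.hS

/-- `t z x t = z (1/x) t z x k (x²)`. -/
theorem t_z_t {x : F} (hx : x ≠ 0) :
    t * D.C.z x * t = D.C.z x⁻¹ * t * D.C.z x * D.k (x * x) := by
  set l := x⁻¹ with hl
  have hl0 : l ≠ 0 := inv_ne_zero hx
  have hxl : x = l⁻¹ := (inv_inv x).symm
  have hL : D.k l * (t * D.C.z 1 * t) * (D.k l)⁻¹ = t * D.C.z x * t := by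
    have h1 : D.k l * t = t * D.k x := by rw [hl, D.t_k hx]
    have h2 : t * (D.k l)⁻¹ = D.k l * t := by rw [D.k_inv hl0, ← hxl, h1]
    calc D.k l * (t * D.C.z 1 * t) * (D.k l)⁻¹
        = (D.k l * t) * D.C.z 1 * (t * (D.k l)⁻¹) := by group
      _ = t * (D.k x * D.C.z 1) * (D.k l * t) := by rw [h2, h1]; group
      _ = t * D.C.z x * (D.k x * D.k l) * t := by rw [D.k_z hx, mul_one]; group
      _ = t * D.C.z x * t := by
          rw [← D.k_mul hx hl0, hl, mul_inv_cancel₀ hx, D.k_one, mul_one]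
  have hR : D.k l * (D.C.z 1 * t * D.C.z 1) * (D.k l)⁻¹ =
      D.C.z x⁻¹ * t * D.C.z x * D.k (x * x) := by
    calc D.k l * (D.C.z 1 * t * D.C.z 1) * (D.k l)⁻¹
        = (D.k l * D.C.z 1) * t * D.C.z 1 * (D.k l)⁻¹ := by group
      _ = D.C.z l * (D.k l * t) * D.C.z 1 * (D.k l)⁻¹ := by rw [D.k_z hl0, mul_one]; group
      _ = D.C.z l * t * (D.k x * D.C.z 1) * D.k x := by
          rw [show D.k l * t = t * D.k x by rw [hl, D.t_k hx], D.k_inv hl0, ← hxl]; group
      _ = D.C.z l * t * D.C.z x * (D.k x * D.k x) := by rw [D.k_z hx, mul_one]; group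
      _ = _ := by rw [← D.k_mul hx hx]
  rw [← hL, D.rel, hR]

/-! ### The points of the line -/

/-- The point of the vector `(u, v)`. -/
noncomputable def ptv (w : F × F) : Ω :=
  haveI : DecidableEq F := Classical.decEq F
  if w.2 = 0 then a else D.C.z (w.1 / w.2) • (t • a)

theorem ptv_zero {w : F × F} (h : w.2 = 0) : D.ptv w = a := by simp [ptv, h]

theorem ptv_ne {w : F × F} (h : w.2 ≠ 0) : D.ptv w = D.C.z (w.1 / w.2) • (t • a) := by simp [ptv, h]

theorem z_smul_ne (x : F) : D.C.z x • (t • a) ≠ a := fun h =>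
  t_smul_ne D.hS (smul_left_cancel (D.C.z x) (h.trans (D.z_fix x).symm))

theorem z_pt_inj {x y : F} (h : D.C.z x • (t • a) = D.C.z y • (t • a)) : x = y := by
  refine D.eq_of_add_eq_zero (D.C.z_inj ?_)
  rw [D.C.z_zero]
  refine eq_one_of_fix_ta D.hS (D.C.z_mem_Q D.hS _) ?_
  rw [D.C.z_add, mul_smul, ← h, ← mul_smul, D.z_self, one_smul]

/-- The points of the line: the fixed points of the centraliser of `J` in `D`. -/
def line : Set Ω := {p | p = a ∨ ∃ x, D.C.z x • (t • a) = p}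

theorem mem_line_a : a ∈ D.line := Or.inl rfl

theorem mem_line_b : t • a ∈ D.line := Or.inr ⟨0, by rw [D.C.z_zero, one_smul]⟩

theorem ptv_mem (w : F × F) : D.ptv w ∈ D.line := by
  by_cases h : w.2 = 0
  · exact Or.inl (D.ptv_zero h)
  · exact Or.inr ⟨_, (D.ptv_ne h).symm⟩

theorem exists_ptv {p : Ω} (hp : p ∈ D.line) : ∃ w : F × F, w ≠ 0 ∧ D.ptv w = p := by
  rcases hp with rfl | ⟨x, rfl⟩
  · exact ⟨(1, 0), fun h => one_ne_zero (congrArg Prod.fst h), D.ptv_zero rfl⟩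
  · exact ⟨(x, 1), fun h => one_ne_zero (congrArg Prod.snd h), by
      rw [D.ptv_ne one_ne_zero, div_one]⟩

theorem ptv_eq_iff {w w' : F × F} (hw : w ≠ 0) (hw' : w' ≠ 0) :
    D.ptv w = D.ptv w' ↔ w.1 * w'.2 = w.2 * w'.1 := by
  by_cases h : w.2 = 0 <;> by_cases h' : w'.2 = 0
  · simp [D.ptv_zero h, D.ptv_zero h', h, h']
  · have h1 : w.1 ≠ 0 := fun h1 => hw (Prod.ext h1 h)
    rw [D.ptv_zero h, D.ptv_ne h', h, zero_mul]
    exact ⟨fun e => absurd e.symm (D.z_smul_ne _), fun e => absurd e (mul_ne_zero h1 h')⟩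
  · have h1 : w'.1 ≠ 0 := fun h1 => hw' (Prod.ext h1 h')
    rw [D.ptv_ne h, D.ptv_zero h', h', mul_zero]
    exact ⟨fun e => absurd e (D.z_smul_ne _), fun e => absurd e.symm (mul_ne_zero h h1)⟩
  · rw [D.ptv_ne h, D.ptv_ne h', mul_comm w.2]
    exact ⟨fun e => (div_eq_div_iff h h').1 (D.z_pt_inj e),
      fun e => by rw [(div_eq_div_iff h h').2 e]⟩

theorem z_ptv (y : F) (w : F × F) :
    D.C.z y • D.ptv w = D.ptv (w.1 + y * w.2, w.2) := by
  by_cases h : w.2 = 0
  · rw [D.ptv_zero h, D.ptv_zero (by exact h), D.z_fix]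
  · rw [D.ptv_ne h, D.ptv_ne (by exact h), ← mul_smul, ← D.C.z_add]
    congr 2
    field_simp
    ring

theorem k_ptv {μ : F} (hμ : μ ≠ 0) (w : F × F) :
    D.k (μ * μ) • D.ptv w = D.ptv (μ * w.1, w.2 / μ) := by
  by_cases h : w.2 = 0
  · rw [D.ptv_zero h, D.ptv_zero (by simp [h]), D.k_fix]
  · rw [D.ptv_ne h, D.ptv_ne (w := (μ * w.1, w.2 / μ)) (div_ne_zero h hμ), ← mul_smul,
      D.k_z (mul_ne_zero hμ hμ), mul_smul, D.k_fix_b]
    congr 2
    field_simp

theorem t_ptv {w : F × F} (hw : w ≠ 0) : t • D.ptv w = D.ptv (w.2, w.1) := by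
  by_cases h : w.2 = 0
  · have h1 : w.1 ≠ 0 := fun h1 => hw (Prod.ext h1 h)
    rw [D.ptv_zero h, D.ptv_ne (w := (w.2, w.1)) h1, h, zero_div, D.C.z_zero, one_smul]
  · by_cases h1 : w.1 = 0
    · rw [D.ptv_ne h, h1, zero_div, D.C.z_zero, one_smul, D.t_a, D.ptv_zero (w := (w.2, (0:F))) rfl]
    · rw [D.ptv_ne h, D.ptv_ne (w := (w.2, w.1)) h1]
      have hx : w.1 / w.2 ≠ 0 := div_ne_zero h1 h
      calc t • D.C.z (w.1 / w.2) • (t • a) = (t * D.C.z (w.1 / w.2) * t) • a := by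
            rw [mul_smul, mul_smul]
        _ = D.C.z (w.2 / w.1) • (t • a) := by
            rw [D.t_z_t hx, mul_smul, mul_smul, mul_smul, D.k_fix, D.z_fix, inv_div]

/-! ### The homomorphism from `SL₂` -/

theorem det_eq (M : SpecialLinearGroup (Fin 2) F) : M 0 0 * M 1 1 + M 0 1 * M 1 0 = 1 := by
  have h := M.det_coe
  rw [Matrix.det_fin_two] at h
  linear_combination h + (M 0 1 * M 1 0) * D.two_eq_zero

/-- The element of `G` of a matrix, by the Bruhat decomposition. -/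
noncomputable def hom₀ (M : SpecialLinearGroup (Fin 2) F) : G :=
  haveI : DecidableEq F := Classical.decEq F
  if M 1 0 = 0 then D.C.z (M 0 0 * M 0 1) * D.k (M 0 0 * M 0 0)
  else D.C.z (M 0 0 / M 1 0) * t * D.C.z (M 1 0 * M 1 1) * D.k (M 1 0 * M 1 0)

theorem hom₀_act (M : SpecialLinearGroup (Fin 2) F) {w : F × F} (hw : w ≠ 0) :
    D.hom₀ M • D.ptv w = D.ptv (app M w) := by
  have hdet := D.det_eq M
  by_cases h : M 1 0 = 0
  · rw [h, mul_zero, add_zero] at hdet
    have h0 : M 0 0 ≠ 0 := left_ne_zero_of_mul_eq_one hdet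
    have h11 : M 1 1 = (M 0 0)⁻¹ := eq_inv_of_mul_eq_one_right hdet
    rw [hom₀, if_pos h, mul_smul, D.k_ptv h0, D.z_ptv]
    congr 1
    simp only [app, h, h11, zero_mul, zero_add]
    refine Prod.ext ?_ ?_ <;> field_simp
  · rw [hom₀, if_neg h, mul_smul, mul_smul, mul_smul, D.k_ptv h, D.z_ptv,
      D.t_ptv ?_, D.z_ptv]
    · congr 1
      simp only [app]
      refine Prod.ext ?_ ?_
      · field_simp
        linear_combination (w.2) * (hdet) + (-(M 0 1 * M 1 0 * w.2) + w.2) * D.two_eq_zero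
      · field_simp
    · intro hc
      have h2 : w.2 / M 1 0 = 0 := congrArg Prod.snd hc
      have h1 := congrArg Prod.fst hc
      rw [div_eq_zero_iff, or_iff_left h] at h2
      simp only [h2, zero_div, mul_zero, add_zero, Prod.fst_zero, mul_eq_zero, or_iff_right h] at h1
      exact hw (Prod.ext h1 h2)

/-- Two matrices with the same action on the line are equal. -/
theorem eq_of_app {M N : SpecialLinearGroup (Fin 2) F}
    (h : ∀ w : F × F, w ≠ 0 → D.ptv (app M w) = D.ptv (app N w)) : M = N := by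
  set P := N⁻¹ * M with hP
  have hP' : ∀ w : F × F, w ≠ 0 → (app P w).1 * w.2 = (app P w).2 * w.1 := fun w hw => by
    have e := congrArg (fun p => D.hom₀ N⁻¹ • p) (h w hw)
    simp only [D.hom₀_act _ (app_ne_zero M hw), D.hom₀_act _ (app_ne_zero N hw), ← app_mul,
      inv_mul_cancel] at e
    rw [← hP] at e
    have h1 := (D.ptv_eq_iff (app_ne_zero P hw) (app_ne_zero 1 hw)).1 e
    simpa [app] using h1
  have e0 := hP' (1, 0) (by simp [Prod.ext_iff])
  have e1 := hP' (0, 1) (by simp [Prod.ext_iff])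
  have e2 := hP' (1, 1) (by simp [Prod.ext_iff])
  have hd := D.det_eq P
  simp only [app, mul_one, mul_zero, add_zero, zero_add] at e0 e1 e2
  rw [← e0] at e2 hd
  rw [e1] at e2 hd
  simp only [add_zero, zero_add, mul_zero] at e2 hd
  rw [← e2] at hd
  have hα : P 0 0 = 1 := D.eq_of_add_eq_zero (sq_eq_zero_iff.1
    (show (P 0 0 + 1) ^ 2 = 0 by linear_combination hd + (P 0 0 + 1) * D.two_eq_zero))
  have hP1 : P = 1 := by
    ext i j
    fin_cases i <;> fin_cases j <;> simp [← e0, e1, ← e2, hα]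
  exact (inv_mul_eq_one.1 (hP ▸ hP1)).symm

/-- The group `⟨Z, t⟩`. -/
def lineGroup : Subgroup G := Subgroup.closure (Set.range D.C.z ∪ {t})

theorem z_mem_lineGroup (x : F) : D.C.z x ∈ D.lineGroup := Subgroup.subset_closure (Or.inl ⟨x, rfl⟩)

theorem t_mem_lineGroup : t ∈ D.lineGroup := Subgroup.subset_closure (Or.inr rfl)

theorem k_sq_mem_lineGroup (x : F) : D.k (x * x) ∈ D.lineGroup := by
  by_cases hx : x = 0
  · rw [hx, mul_zero, k, dif_pos rfl]; exact one_mem _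
  · have h := D.t_z_t hx
    have h1 : D.k (x * x) = (D.C.z x⁻¹ * t * D.C.z x)⁻¹ * (t * D.C.z x * t) := by rw [h]; group
    rw [h1]
    have hz := D.z_mem_lineGroup
    have ht := D.t_mem_lineGroup
    exact mul_mem (inv_mem (mul_mem (mul_mem (hz _) ht) (hz _))) (mul_mem (mul_mem ht (hz _)) ht)

theorem hom₀_mem (M : SpecialLinearGroup (Fin 2) F) : D.hom₀ M ∈ D.lineGroup := by
  unfold hom₀
  split
  · exact mul_mem (D.z_mem_lineGroup _) (D.k_sq_mem_lineGroup _)
  · exact mul_mem (mul_mem (mul_mem (D.z_mem_lineGroup _) D.t_mem_lineGroup) (D.z_mem_lineGroup _))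
      (D.k_sq_mem_lineGroup _)

/-- The matrix with the given entries. -/
def mat (α β γ δ : F) (h : α * δ + β * γ = 1) : SpecialLinearGroup (Fin 2) F :=
  ⟨!![α, β; γ, δ], by
    rw [Matrix.det_fin_two_of]
    linear_combination h - (β * γ) * D.two_eq_zero⟩

@[simp] theorem mat_apply (α β γ δ : F) (h : α * δ + β * γ = 1) :
    (D.mat α β γ δ h) 0 0 = α ∧ (D.mat α β γ δ h) 0 1 = β ∧ (D.mat α β γ δ h) 1 0 = γ ∧
      (D.mat α β γ δ h) 1 1 = δ := ⟨rfl, rfl, rfl, rfl⟩

theorem exists_z_mul (x : F) (M : SpecialLinearGroup (Fin 2) F) :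
    ∃ N, D.hom₀ N = D.C.z x * D.hom₀ M := by
  have hdet := D.det_eq M
  refine ⟨D.mat (M 0 0 + x * M 1 0) (M 0 1 + x * M 1 1) (M 1 0) (M 1 1)
    (by linear_combination hdet + (x * M 1 0 * M 1 1) * D.two_eq_zero), ?_⟩
  obtain ⟨e1, e2, e3, e4⟩ := D.mat_apply (M 0 0 + x * M 1 0) (M 0 1 + x * M 1 1) (M 1 0) (M 1 1)
    (by linear_combination hdet + (x * M 1 0 * M 1 1) * D.two_eq_zero)
  by_cases h : M 1 0 = 0
  · rw [hom₀, hom₀, if_pos h, if_pos (e3.trans h), e1, e2, h, mul_zero, add_zero, ← mul_assoc,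
      ← D.C.z_add]
    congr 2
    rw [h, mul_zero, add_zero] at hdet
    linear_combination x * hdet
  · rw [hom₀, hom₀, if_neg h, if_neg (e3.symm ▸ h), e1, e3, e4]
    simp only [← mul_assoc]
    rw [← D.C.z_add]
    congr 4
    field_simp
    ring

theorem exists_t_mul (M : SpecialLinearGroup (Fin 2) F) :
    ∃ N, D.hom₀ N = t * D.hom₀ M := by
  have hdet := D.det_eq M
  refine ⟨D.mat (M 1 0) (M 1 1) (M 0 0) (M 0 1) (by linear_combination hdet), ?_⟩
  obtain ⟨e1, e2, e3, e4⟩ := D.mat_apply (M 1 0) (M 1 1) (M 0 0) (M 0 1)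
    (by linear_combination hdet)
  by_cases h : M 1 0 = 0
  · have hdet' : M 0 0 * M 1 1 = 1 := by rw [h, mul_zero, add_zero] at hdet; exact hdet
    have h0 : M 0 0 ≠ 0 := left_ne_zero_of_mul_eq_one hdet'
    rw [hom₀, hom₀, if_pos h, if_neg (e3.symm ▸ h0), e1, e3, e4, h, zero_div, D.C.z_zero, one_mul]
    simp only [← mul_assoc]
  · by_cases h0 : M 0 0 = 0
    · have hdet' : M 0 1 * M 1 0 = 1 := by rw [h0, zero_mul, zero_add] at hdet; exact hdet
      rw [hom₀, hom₀, if_neg h, if_pos (e3.trans h0), e1, e2, h0, zero_div, D.C.z_zero, one_mul]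
      simp only [← mul_assoc]
      rw [D.hS.mul_self, one_mul]
    · rw [hom₀, hom₀, if_neg h, if_neg (e3.symm ▸ h0), e1, e3, e4]
      set x := M 0 0 / M 1 0 with hx
      have hx0 : x ≠ 0 := div_ne_zero h0 h
      calc D.C.z (M 1 0 / M 0 0) * t * D.C.z (M 0 0 * M 0 1) * D.k (M 0 0 * M 0 0)
          = D.C.z x⁻¹ * t * D.C.z x * D.k (x * x) *
              (D.C.z (M 1 0 * M 1 1) * D.k (M 1 0 * M 1 0)) := ?_
        _ = t * (D.C.z x * t * D.C.z (M 1 0 * M 1 1) * D.k (M 1 0 * M 1 0)) := by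
              rw [← D.t_z_t hx0]; group
      have e : D.C.z (M 0 0 * M 0 1) * D.k (M 0 0 * M 0 0) =
          D.C.z x * (D.k (x * x) * D.C.z (M 1 0 * M 1 1)) * D.k (M 1 0 * M 1 0) := by
        rw [D.k_z (mul_ne_zero hx0 hx0), ← mul_assoc, ← D.C.z_add, mul_assoc,
          ← D.k_mul (mul_ne_zero hx0 hx0) (mul_ne_zero h h)]
        rw [hx]
        congr 2
        · field_simp
          linear_combination hdet - (M 0 0 * M 1 1) * D.two_eq_zero
        · field_simp
      rw [hx, inv_div, mul_assoc (D.C.z (M 1 0 / M 0 0) * t), e, hx]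
      group

theorem hom₀_one : D.hom₀ 1 = 1 := by
  rw [hom₀, if_pos (by simp)]
  simp [D.C.z_zero, D.k_one]

theorem exists_hom₀ {g : G} (hg : g ∈ D.lineGroup) : ∃ M, D.hom₀ M = g := by
  suffices h : ∀ M, ∃ N, D.hom₀ N = g * D.hom₀ M by
    obtain ⟨N, hN⟩ := h 1
    exact ⟨N, by rw [hN, D.hom₀_one, mul_one]⟩
  refine Subgroup.closure_induction (p := fun g _ => ∀ M, ∃ N, D.hom₀ N = g * D.hom₀ M)
    ?_ ?_ ?_ ?_ hg
  · rintro y (⟨x, rfl⟩ | rfl) M
    · exact D.exists_z_mul x M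
    · exact D.exists_t_mul M
  · exact fun M => ⟨M, (one_mul _).symm⟩
  · intro x y _ _ hx hy M
    obtain ⟨N, hN⟩ := hy M
    obtain ⟨P, hP⟩ := hx N
    exact ⟨P, by rw [hP, hN, mul_assoc]⟩
  · intro x _ hx M
    classical
    have hsur : Function.Surjective fun N => (hx N).choose := by
      have hinj : Function.Injective fun N => (hx N).choose := by
        intro N N' e
        have e1 := (hx N).choose_spec
        have e2 := (hx N').choose_spec
        have e' : D.hom₀ (hx N).choose = D.hom₀ (hx N').choose := congrArg D.hom₀ e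
        rw [e1, e2] at e'
        have e3 := mul_left_cancel e'
        refine Subtype.ext ?_
        have key : ∀ w : F × F, w ≠ 0 → D.ptv (app N w) = D.ptv (app N' w) := fun w hw => by
          rw [← D.hom₀_act N hw, ← D.hom₀_act N' hw, e3]
        exact congrArg Subtype.val (D.eq_of_app key)
      exact Finite.injective_iff_surjective.1 hinj
    obtain ⟨N, hN⟩ := hsur M
    refine ⟨N, ?_⟩
    rw [show D.hom₀ M = x * D.hom₀ N from hN ▸ (hx N).choose_spec, inv_mul_cancel_left]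

theorem hom₀_mul (M N : SpecialLinearGroup (Fin 2) F) :
    D.hom₀ (M * N) = D.hom₀ M * D.hom₀ N := by
  obtain ⟨P, hP⟩ := D.exists_hom₀ (mul_mem (D.hom₀_mem M) (D.hom₀_mem N))
  rw [← hP]
  congr 1
  refine (D.eq_of_app fun w hw => ?_).symm
  rw [← D.hom₀_act P hw, hP, mul_smul, D.hom₀_act N hw, D.hom₀_act M (app_ne_zero N hw), app_mul]

/-- The isomorphism of `SL₂(F)` with `⟨Z, t⟩`, as a homomorphism into `G`. -/
noncomputable def hom : SpecialLinearGroup (Fin 2) F →* G := MonoidHom.mk' D.hom₀ D.hom₀_mul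

theorem hom_apply (M : SpecialLinearGroup (Fin 2) F) : D.hom M = D.hom₀ M := rfl

theorem hom_act (M : SpecialLinearGroup (Fin 2) F) {w : F × F} (hw : w ≠ 0) :
    D.hom M • D.ptv w = D.ptv (app M w) := D.hom₀_act M hw

theorem hom_injective : Function.Injective D.hom := fun M N h =>
  D.eq_of_app fun w hw => by rw [← D.hom_act M hw, ← D.hom_act N hw, h]

theorem hom_range : D.hom.range = D.lineGroup := by
  ext g
  exact ⟨fun ⟨M, hM⟩ => hM ▸ D.hom₀_mem M, fun hg => D.exists_hom₀ hg⟩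

theorem hom_z (x : F) : D.hom (D.mat 1 x 0 1 (by ring)) = D.C.z x := by
  rw [hom_apply, hom₀, if_pos (D.mat_apply _ _ _ _ _).2.2.1]
  obtain ⟨e1, e2, -, -⟩ := D.mat_apply 1 x 0 1 (by ring)
  rw [e1, e2, one_mul, one_mul, D.k_one, mul_one]

theorem hom_t : D.hom (D.mat 0 1 1 0 (by ring)) = t := by
  obtain ⟨e1, e2, e3, e4⟩ := D.mat_apply 0 1 1 0 (by ring)
  rw [hom_apply, hom₀, if_neg (by rw [e3]; exact one_ne_zero), e1, e3, e4]
  simp [D.C.z_zero, D.k_one]

theorem hom_k {μ : F} (hμ : μ ≠ 0) :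
    D.hom (D.mat μ 0 0 μ⁻¹ (by simp [hμ])) = D.k (μ * μ) := by
  obtain ⟨e1, e2, e3, -⟩ := D.mat_apply μ 0 0 μ⁻¹ (by simp [hμ])
  rw [hom_apply, hom₀, if_pos e3, e1, e2, mul_zero, D.C.z_zero, one_mul]

theorem smul_line {g : G} (hg : g ∈ D.lineGroup) {p : Ω} (hp : p ∈ D.line) :
    g • p ∈ D.line := by
  obtain ⟨M, rfl⟩ := D.exists_hom₀ hg
  obtain ⟨w, hw, rfl⟩ := D.exists_ptv hp
  rw [D.hom₀_act M hw]
  exact D.ptv_mem _

end LineData

end CfsgLib.Lie.RankOneClass.Ident
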