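import Cfsg.Agent.Lib.Lie.RankOneClass.Ident.Coords

/-!
Owner: helper20 (slice H). The block related to `fib z` through `t • a` is the curve
`X = z̄ Z`; hence the labels of a product in `Q` are the sums of the labels.
-/

set_option autoImplicit false
set_option linter.all false

namespace CfsgLib.Lie.RankOneClass.Ident

open MulAction CfsgLib.Lie.RankOne Matrix CfsgLib.Classical.Herm
open scoped Pointwise

variable {L : Type} [Field L] [Fintype L] [CharP L 2] {σ : L →+* L} [Fintype (fixedSub σ)]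
  {G Ω : Type*} [Group G] [MulAction G Ω] {a : Ω} {t : G} {Q : Subgroup G}
  [Finite G] [FaithfulSMul G Ω]

namespace UData

variable (U : UData G Ω a t Q L σ)

include U

/-- The points with a given label, together with `a`. -/
def fib (z : L) : Set Ω := insert a {ω | ∃ p : L × L, OnU σ p ∧ p.2 = z ∧ U.Phi p = ω}

/-- The points on a curve `X = s + c Z` off the line, together with `z_s • t • a`. -/
def lam (c : L) (s : fixedSub σ) : Set Ω :=
  insert (U.D.C.z s • (t • a))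
    {ω | ∃ p : L × L, OnU σ p ∧ p.2 ≠ 0 ∧ p.1 = (s : L) + c * p.2 ∧ U.Phi p = ω}

theorem fib_eq {y : G} (hy : y ∈ Q) : y • U.D.line = U.fib (U.lab y) := by
  ext ω
  constructor
  · rintro ⟨p, hp, rfl⟩
    rcases hp with rfl | ⟨x, rfl⟩
    · exact Or.inl (Q_fix U.D.hS hy)
    · refine Or.inr ⟨((U.crd (y • (t • a))).1 + x, U.lab y), U.onU_shift (U.smul_b_eq hy).1 x, rfl, ?_⟩
      show U.Phi _ = y • U.D.C.z x • (t • a)
      conv_rhs => rw [← mul_smul y (U.D.C.z x), U.z_comm hy, mul_smul, ← (U.smul_b_eq hy).2,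
        U.z_Phi x (U.smul_b_eq hy).1]
      rfl
  · rintro (rfl | ⟨p, hp, hz, rfl⟩)
    · exact ⟨ω, U.D.mem_line_a, Q_fix U.D.hS hy⟩
    · obtain ⟨x, hx⟩ := U.exists_shift (U.smul_b_eq hy).1 hp (by rw [hz]; rfl)
      refine ⟨U.D.C.z x • (t • a), Or.inr ⟨x, rfl⟩, ?_⟩
      show y • U.D.C.z x • (t • a) = _
      rw [hx, (U.smul_b_eq hy).2, ← mul_smul, U.z_comm hy, mul_smul]

theorem fib_block (z : L) : U.D.IsBlock (U.fib z) := by
  obtain ⟨y, hy, rfl⟩ := U.exists_lab z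
  exact ⟨y, U.fib_eq hy⟩

theorem Phi_mem_fib {p : L × L} (hp : OnU σ p) {z : L} : U.Phi p ∈ U.fib z ↔ p.2 = z := by
  constructor
  · rintro (h | ⟨p', hp', hz, e⟩)
    · exact absurd h (U.Phi_ne_a hp)
    · rw [← U.Phi_inj hp' hp e, hz]
  · exact fun h => Or.inr ⟨p, hp, h, rfl⟩

theorem smul_fib {x y : G} (hx : x ∈ Q) (hy : y ∈ Q) :
    x • U.fib (U.lab y) = U.fib (U.lab (x * y)) := by
  rw [← U.fib_eq hy, ← U.fib_eq (mul_mem hx hy), mul_smul]

theorem z_smul_fib (x : fixedSub σ) (z : L) : U.D.C.z x • U.fib z = U.fib z := by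
  obtain ⟨y, hy, rfl⟩ := U.exists_lab z
  rw [U.smul_fib (U.D.C.z_mem_Q U.D.hS x) hy]
  congr 1
  exact ((U.lab_eq_iff hy (mul_mem (U.D.C.z_mem_Q U.D.hS x) hy)).2 ⟨x, rfl⟩).symm

/-- A block through `a` is a fibre. -/
theorem block_through_a {B : Set Ω} (hB : U.D.IsBlock B) (ha : a ∈ B) {p : L × L} (hp : OnU σ p)
    (hm : U.Phi p ∈ B) : B = U.fib p.2 :=
  U.D.block_unique hB (U.fib_block p.2) (U.Phi_ne_a hp).symm ha hm (Or.inl rfl)
    ((U.Phi_mem_fib hp).2 rfl)

theorem z_smul_lam (x s : fixedSub σ) (c : L) : U.D.C.z x • U.lam c s = U.lam c (s + x) := by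
  ext ω
  constructor
  · rintro ⟨ω', (rfl | ⟨p, hp, hz, h1, rfl⟩), rfl⟩
    · refine Or.inl ?_
      show U.D.C.z x • _ = _
      rw [← mul_smul, ← U.D.C.z_add, add_comm]
    · refine Or.inr ⟨(p.1 + x, p.2), U.onU_shift hp x, hz, ?_, (U.z_Phi x hp).symm⟩
      show p.1 + x = ((s + x : fixedSub σ) : L) + c * p.2
      rw [h1, Subfield.coe_add]; ring
  · rintro (rfl | ⟨p, hp, hz, h1, rfl⟩)
    · refine ⟨_, Or.inl rfl, ?_⟩
      show U.D.C.z x • _ = _
      rw [← mul_smul, ← U.D.C.z_add, add_comm]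
    · refine ⟨U.Phi (p.1 + x, p.2), Or.inr ⟨_, U.onU_shift hp x, hz, ?_, rfl⟩, ?_⟩
      · show p.1 + x = (s : L) + c * p.2
        rw [h1, Subfield.coe_add]
        linear_combination (x : L) * two_L (L := L)
      · show U.D.C.z x • U.Phi _ = _
        rw [U.z_Phi x (U.onU_shift hp x)]
        congr 1
        exact Prod.ext (by show p.1 + x + x = p.1; linear_combination (x : L) * two_L (L := L)) rfl

theorem t_smul_fib {z : L} (hz : z ≠ 0) : t • U.fib z = U.lam (1 / z) 0 := by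
  have hb : U.D.C.z 0 • (t • a) = t • a := by rw [U.D.C.z_zero, one_smul]
  ext ω
  constructor
  · rintro ⟨ω', (rfl | ⟨p, hp, hpz, rfl⟩), rfl⟩
    · exact Or.inl hb.symm
    · have hX := hp.fst_ne (hpz ▸ hz)
      refine Or.inr ⟨(1 / p.1, p.2 / p.1), ?_, div_ne_zero (hpz ▸ hz) hX, ?_, (U.t_Phi hp hX).symm⟩
      · have hX' : σ p.1 ≠ 0 := (map_ne_zero σ).2 hX
        unfold OnU at *
        simp only [map_div₀, map_one]
        field_simp
        linear_combination hp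
      · show 1 / p.1 = ((0 : fixedSub σ) : L) + 1 / z * (p.2 / p.1)
        rw [hpz, Subfield.coe_zero, zero_add]
        field_simp
  · rintro (rfl | ⟨p, hp, hpz, h1, rfl⟩)
    · exact ⟨a, Or.inl rfl, hb.symm⟩
    · have hX := hp.fst_ne hpz
      have hX' : σ p.1 ≠ 0 := (map_ne_zero σ).2 hX
      have hq : OnU σ (1 / p.1, p.2 / p.1) := by
        unfold OnU at *
        simp only [map_div₀, map_one]
        field_simp
        linear_combination hp
      refine ⟨U.Phi (1 / p.1, p.2 / p.1), (U.Phi_mem_fib hq).2 ?_ |> fun h => h, ?_⟩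
      · show p.2 / p.1 = z
        rw [h1, Subfield.coe_zero, zero_add]
        field_simp
      · show t • U.Phi _ = _
        rw [U.t_Phi hq (one_div_ne_zero hX)]
        congr 1
        refine Prod.ext ?_ ?_ <;> field_simp

theorem lam_block {c : L} (hc : c ≠ 0) (s : fixedSub σ) : U.D.IsBlock (U.lam c s) := by
  rw [← zero_add s, ← U.z_smul_lam, ← one_div_one_div c, ← U.t_smul_fib (one_div_ne_zero hc)]
  exact LineData.IsBlock.smul' U.D (LineData.IsBlock.smul' U.D (U.fib_block _) _) _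

theorem lam_inj {c c' : L} (hc : c ≠ 0) (hc' : c' ≠ 0) (h : U.lam c 0 = U.lam c' 0) : c = c' := by
  have e : U.fib (1 / c) = U.fib (1 / c') := by
    apply smul_left_cancel t
    rw [U.t_smul_fib (one_div_ne_zero hc), U.t_smul_fib (one_div_ne_zero hc'), one_div_one_div,
      one_div_one_div, h]
  obtain ⟨X, hX⟩ := U.exists_X (1 / c)
  have h1 := (U.Phi_mem_fib hX).1 (e ▸ (U.Phi_mem_fib hX).2 rfl)
  simpa using h1

/-- `c` is the centre of the block related to `fib z` at `t • a`. -/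
def Part (z c : L) : Prop := U.Rel (U.fib z) (U.lam (σ c) 0)

theorem b_mem_lam (c : L) : t • a ∈ U.lam c 0 := Or.inl (by rw [U.D.C.z_zero, one_smul])

theorem b_notMem_fib {z : L} (hz : z ≠ 0) : t • a ∉ U.fib z := by
  rw [← U.Phi_origin, U.Phi_mem_fib (by simp [OnU])]
  exact fun h => hz h.symm

theorem exists_part {z : L} (hz : z ≠ 0) : ∃ c, c ≠ 0 ∧ U.Part z c := by
  obtain ⟨B, ⟨hR, hb⟩, -⟩ := U.existsUnique_rel (U.fib_block z) (U.b_notMem_fib hz)
  obtain ⟨g, hg, hB, hdisj, hfix⟩ := hR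
  have hRel : U.Rel (U.fib z) B := ⟨g, hg, hB, hdisj, hfix⟩
  have haB : a ∉ B := fun h => Set.disjoint_left.1 hdisj (Or.inl rfl) h
  have hta : a ∈ t • B := ⟨t • a, hb, U.D.t_a⟩
  have hne : (t • B : Set Ω) ≠ U.D.line := by
    intro e
    refine haB ?_
    have : t • a ∈ t • B := e ▸ U.D.mem_line_b
    rwa [Set.smul_mem_smul_set_iff] at this
  have htB := LineData.IsBlock.smul' U.D hB t
  obtain ⟨ω, hω, hωl⟩ : ∃ ω ∈ t • B, ω ∉ U.D.line := by
    by_contra h
    push Not at h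
    haveI := (card_points U.D.hS).1
    refine hne (Set.eq_of_subset_of_ncard_le h ?_ (Set.toFinite _))
    rw [U.D.card_block htB, U.D.card_block U.D.isBlock_line]
  obtain ⟨p, hp, rfl⟩ := U.exists_Phi (fun e : ω = a => hωl (e ▸ U.D.mem_line_a))
  have hpz : p.2 ≠ 0 := fun h => hωl ((U.Phi_mem_line hp).2 h)
  have e := U.block_through_a htB hta hp hω
  refine ⟨σ (1 / p.2), (map_ne_zero σ).2 (one_div_ne_zero hpz), ?_⟩
  have hBe : B = U.lam (1 / p.2) 0 := by
    rw [← U.t_smul_fib hpz, ← e, ← mul_smul, U.D.hS.mul_self, one_smul]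
  rw [Part, U.hσ.invol, ← hBe]
  exact hRel

theorem part_unique {z c c' : L} (hz : z ≠ 0) (hc : c ≠ 0) (hc' : c' ≠ 0) (h : U.Part z c)
    (h' : U.Part z c') : c = c' := by
  have e : U.lam (σ c) 0 = U.lam (σ c') 0 :=
    (U.existsUnique_rel (U.fib_block z) (U.b_notMem_fib hz)).unique
      ⟨h, U.b_mem_lam _⟩ ⟨h', U.b_mem_lam _⟩
  exact σ.injective (U.lam_inj ((map_ne_zero σ).2 hc) ((map_ne_zero σ).2 hc') e)

theorem part_smul {z c : L} (hz : z ≠ 0) (hc : c ≠ 0) (h : U.Part z c) {μ : fixedSub σ}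
    (hμ : μ ≠ 0) : U.Part ((μ : L) * z) ((μ : L) * c) := by
  have hμ' : (μ : L) ≠ 0 := fun e => hμ (Subtype.ext e)
  have h' := U.rel_smul h (U.D.k (μ * μ))
  have honU : ∀ p : L × L, OnU σ p → OnU σ ((μ : L) * μ * p.1, (μ : L) * p.2) := fun p hp => by
    unfold OnU at *
    simp only [map_mul, sigma_coe]
    linear_combination ((μ : L) * μ) * hp
  have e1 : U.D.k (μ * μ) • U.fib z = U.fib ((μ : L) * z) := by
    obtain ⟨X, hX⟩ := U.exists_X z
    refine (U.block_through_a (LineData.IsBlock.smul' U.D (U.fib_block z) _) ⟨a, Or.inl rfl, U.D.k_fix _⟩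
      (honU _ hX) ?_).trans rfl
    rw [← U.k_Phi hμ hX]
    exact Set.smul_mem_smul_set ((U.Phi_mem_fib hX).2 rfl)
  have e2 : U.D.k (μ * μ) • U.lam (σ c) 0 = U.lam (σ ((μ : L) * c)) 0 := by
    have hc' : σ ((μ : L) * c) ≠ 0 := (map_ne_zero σ).2 (mul_ne_zero hμ' hc)
    have hB' := LineData.IsBlock.smul' U.D (U.lam_block ((map_ne_zero σ).2 hc) 0) (U.D.k (μ * μ))
    obtain ⟨p, hp, hpz, hp1⟩ : ∃ p : L × L, OnU σ p ∧ p.2 ≠ 0 ∧ p.1 = σ c * p.2 := by
      haveI := (card_points U.D.hS).1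
      have hcard := U.D.card_block (U.lam_block ((map_ne_zero σ).2 hc) 0)
      have hnt : (U.lam (σ c) 0).Nontrivial := by
        rw [← Set.one_lt_ncard_iff_nontrivial, hcard]
        have := Fintype.card_pos (α := fixedSub σ)
        omega
      obtain ⟨ω, hω, hne⟩ := hnt.exists_ne (U.D.C.z 0 • (t • a))
      rcases hω with rfl | ⟨p, hp, hpz, hp1, -⟩
      · exact absurd rfl hne
      · exact ⟨p, hp, hpz, by rw [hp1, Subfield.coe_zero, zero_add]⟩
    have hk : U.Phi ((μ : L) * μ * p.1, (μ : L) * p.2) ≠ t • a := by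
      rw [← U.Phi_origin]
      intro e
      exact mul_ne_zero hμ' hpz (congrArg Prod.snd (U.Phi_inj (honU p hp) (by simp [OnU]) e))
    refine U.D.block_unique hB' (U.lam_block hc' 0) hk ?_ ⟨t • a, U.b_mem_lam _, U.D.k_fix_b _⟩
      (Or.inr ⟨_, honU p hp, mul_ne_zero hμ' hpz, ?_, rfl⟩) (U.b_mem_lam _)
    · rw [← U.k_Phi hμ hp]
      refine Set.smul_mem_smul_set (Or.inr ⟨p, hp, hpz, ?_, rfl⟩)
      rw [hp1, Subfield.coe_zero, zero_add]
    · rw [Subfield.coe_zero, zero_add, map_mul, sigma_coe]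
      show (μ : L) * μ * p.1 = (μ : L) * σ c * ((μ : L) * p.2)
      rw [hp1]; ring
  rw [e1, e2] at h'
  exact h'

end UData

end CfsgLib.Lie.RankOneClass.Ident
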