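import Cfsg.Agent.Lib.Lie.RankOneClass.Ident.Partner

/-!
Owner: helper20 (slice H). The centre of the partner of `fib z` is `z` itself; hence the label of a
product in `Q` is the sum of the labels.
-/

set_option autoImplicit false
set_option linter.all false

namespace CfsgLib.Lie.RankOneClass.Ident

open MulAction CfsgLib.Lie.RankOne Matrix CfsgLib.Classical.Herm
open scoped Pointwise

variable {L : Type} [Field L] [Fintype L] [CharP L 2] {σ : L →+* L} [Fintype (fixedSub σ)]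
  {G Ω : Type*} [Group G] [MulAction G Ω] {a : Ω} {t : G} {Q : Subgroup G}
  [Finite G] [FaithfulSMul G Ω]

namespace UData

variable (U : UData G Ω a t Q L σ)

include U

theorem lab_sq {y : G} (hy : y ∈ Q) : U.lab (y * y) = 0 := U.quotient_facts.1 y hy

theorem lab_comm {y u : G} (hy : y ∈ Q) (hu : u ∈ Q) : U.lab (y * u) = U.lab (u * y) :=
  U.quotient_facts.2.1 y hy u hu

theorem lab_inv {y : G} (hy : y ∈ Q) : U.lab y⁻¹ = U.lab y := by
  have h := U.lab_mul_congr (inv_mem hy) (inv_mem hy) (mul_mem hy hy) (one_mem Q) rfl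
    ((U.lab_sq hy).trans U.lab_one.symm)
  rw [inv_mul_cancel_left, mul_one] at h
  exact h.symm

theorem lab_left_cancel {y u u' : G} (hy : y ∈ Q) (hu : u ∈ Q) (hu' : u' ∈ Q)
    (h : U.lab (y * u) = U.lab (y * u')) : U.lab u = U.lab u' := by
  have e := U.lab_mul_congr (inv_mem hy) (inv_mem hy) (mul_mem hy hu) (mul_mem hy hu') rfl h
  rwa [inv_mul_cancel_left, inv_mul_cancel_left] at e

/-- The points of the orbit of a point off the line. -/
theorem pt_sc_eq {p : L × L} (hp : OnU σ p) (hz : p.2 ≠ 0) {μ : L} (hμ : μ * σ μ = 1) :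
    OnU σ (p.1, p.2 / μ) ∧ U.pt (sc μ (p.1 / p.2, 1 / p.2)) = U.Phi (p.1, p.2 / μ) := by
  have hμ0 : μ ≠ 0 := fun h => by simp [h] at hμ
  have hμ0' : σ μ ≠ 0 := (map_ne_zero σ).2 hμ0
  refine ⟨?_, ?_⟩
  · unfold OnU at *
    simp only [map_div₀]
    rw [div_mul_div_comm, hμ, div_one]
    exact hp
  · rw [U.Phi_ne (p := (p.1, p.2 / μ)) (div_ne_zero hz hμ0)]
    congr 1
    simp only [sc]
    refine Prod.ext ?_ ?_ <;> field_simp

theorem lam_point {c : L} (hc : c ≠ 0) (s : fixedSub σ) :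
    ∃ p : L × L, OnU σ p ∧ p.2 ≠ 0 ∧ p.1 = (s : L) + c * p.2 := by
  haveI := (card_points U.D.hS).1
  have hnt : (U.lam c s).Nontrivial := by
    rw [← Set.one_lt_ncard_iff_nontrivial, U.D.card_block (U.lam_block hc s)]
    have := Fintype.card_pos (α := fixedSub σ)
    omega
  obtain ⟨ω, hω, hne⟩ := hnt.exists_ne (U.D.C.z s • (t • a))
  rcases hω with rfl | ⟨p, hp, hpz, hp1, -⟩
  · exact absurd rfl hne
  · exact ⟨p, hp, hpz, hp1⟩

theorem fib_rel_unique {z : L} {B B' : Set Ω} (h : U.Rel (U.fib z) B) (h' : U.Rel (U.fib z) B')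
    {ω : Ω} (hω : ω ∈ B) (hω' : ω ∈ B') : B = B' := by
  obtain ⟨g, hg, hB, hdisj, hfix⟩ := h
  exact (U.existsUnique_rel (U.fib_block z) fun hm => Set.disjoint_left.1 hdisj hm hω).unique
    ⟨⟨g, hg, hB, hdisj, hfix⟩, hω⟩ ⟨h', hω'⟩

theorem part_data {z c : L} (hz : z ≠ 0) (h : U.Part z c) {y : G} (hy : y ∈ Q) (hlab : U.lab y = z) :
    y⁻¹ • U.lam (σ c) 0 =
      U.coset ((U.crd (y⁻¹ • (t • a))).1 / z, 1 / z) := by
  set p0 := U.crd (y⁻¹ • (t • a)) with hp0
  have h2 : p0.2 = z := (U.lab_inv hy).trans hlab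
  have hp := (U.smul_b_eq (inv_mem hy)).1
  rw [← hp0] at hp
  have h' := U.rel_smul h y⁻¹
  rw [← hlab, ← U.fib_eq hy, inv_smul_smul] at h'
  have := U.rel_line_eq h' (γ := (p0.1 / z, 1 / z)) (h2 ▸ U.tr_of_onU hp (h2.symm ▸ hz)) (by
    rw [← h2, ← U.Phi_ne (h2.symm ▸ hz), hp0, (U.smul_b_eq (inv_mem hy)).2]
    exact Set.smul_mem_smul_set (U.b_mem_lam _))
  exact this

/-- The centre is a multiple of `z` over the fixed field. -/
theorem part_parallel {z c : L} (hz : z ≠ 0) (h : U.Part z c) : ∃ r : fixedSub σ, c = (r : L) * z := by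
  have hz' : σ z ≠ 0 := (map_ne_zero σ).2 hz
  by_cases hT : z * σ c + σ z * c = 0
  · have hfix : σ (c / z) = c / z := by
      rw [map_div₀, div_eq_div_iff hz' hz]
      linear_combination hT - (σ z * c) * two_L (L := L)
    exact ⟨⟨c / z, hfix⟩, by rw [div_mul_cancel₀ c hz]⟩
  exfalso
  set T := z * σ c + σ z * c with hTdef
  have hTfix : σ T = T := by
    rw [hTdef, map_add, map_mul, map_mul, U.hσ.invol, U.hσ.invol]; ring
  set ν : fixedSub σ := ⟨T / (z * σ z), by
    show σ (T / (z * σ z)) = _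
    rw [map_div₀, hTfix, map_mul, U.hσ.invol, mul_comm (σ z)]; rfl⟩ with hν
  have hν0 : (ν : L) ≠ 0 := div_ne_zero hT (mul_ne_zero hz hz')
  have hp : OnU σ (σ c * (ν * z), ν * z) := by
    show σ c * (ν * z) + σ (σ c * (ν * z)) + ν * z * σ (ν * z) = 0
    rw [map_mul, map_mul, U.hσ.invol, sigma_coe]
    have : (ν : L) * (z * σ z) = T := div_mul_cancel₀ T (mul_ne_zero hz hz')
    linear_combination (ν : L) * this - (ν : L) * hTdef + ((ν : L) * T) * two_L (L := L)
  obtain ⟨y, hy, hlab⟩ := U.exists_lab z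
  obtain ⟨u, hu, hub⟩ := U.exists_Q _ hp
  have hlu : U.lab u = (ν : L) * z := by rw [lab, hub, U.crd_Phi hp]
  have hyi : U.lab y⁻¹ = z := (U.lab_inv hy).trans hlab
  obtain ⟨κ, hκ⟩ := U.quotient_facts.2.2 y⁻¹ (inv_mem hy) u hu ν (by rw [hlu, hyi])
  rw [hyi] at hκ
  have hm : (y⁻¹ * u) • (t • a) ∈ U.coset ((U.crd (y⁻¹ • (t • a))).1 / z, 1 / z) := by
    rw [← U.part_data hz h hy hlab, mul_smul, hub]
    refine Set.smul_mem_smul_set (Or.inr ⟨_, hp, mul_ne_zero hν0 hz, ?_, rfl⟩)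
    simp
  obtain ⟨μ, hμ, e⟩ := hm
  set p0 := U.crd (y⁻¹ • (t • a)) with hp0
  have h2 : p0.2 = z := hyi
  have hp0' := (U.smul_b_eq (inv_mem hy)).1
  rw [← hp0] at hp0'
  obtain ⟨hq, e'⟩ := U.pt_sc_eq hp0' (h2.symm ▸ hz) hμ
  rw [h2] at hq e'
  rw [e'] at e
  have hl : U.lab (y⁻¹ * u) = z / μ := by rw [lab, ← e, U.crd_Phi hq]
  rw [hκ] at hl
  have hμ0 : μ ≠ 0 := fun h => by simp [h] at hμ
  have hκμ : (κ : L) * μ = 1 := by
    field_simp at hl
    linear_combination hl
  have hμκ : σ μ = μ := by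
    have h1 := congrArg σ hκμ
    rw [map_mul, map_one, sigma_coe] at h1
    exact mul_left_cancel₀ (fun h0 : (κ : L) = 0 => by simp [h0] at hκμ) (h1.trans hκμ.symm)
  rw [hμκ] at hμ
  have hμ1 : μ = 1 := eq_of_add (mul_self_eq_zero.1 (show (μ + 1) * (μ + 1) = 0 by
    linear_combination hμ + (μ + 1) * two_L (L := L)))
  rw [hμ1, mul_one] at hκμ
  rw [hκμ, one_mul] at hκ
  have e0 : U.lab (y * (y⁻¹ * u)) = U.lab (y * y⁻¹) :=
    U.lab_mul_congr hy hy (mul_mem (inv_mem hy) hu) (inv_mem hy) rfl (hκ.trans hyi.symm)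
  rw [mul_inv_cancel_left, mul_inv_cancel, U.lab_one, hlu] at e0
  exact mul_ne_zero hν0 hz e0

/-- The centre of the partner of `fib z` is `z`. -/
theorem part_self {z : L} (hz : z ≠ 0) : U.Part z z := by
  obtain ⟨c, hc, h⟩ := U.exists_part hz
  obtain ⟨r, hr⟩ := U.part_parallel hz h
  suffices h1 : c = z by rwa [h1] at h
  have hz' : σ z ≠ 0 := (map_ne_zero σ).2 hz
  have hc' : σ c ≠ 0 := (map_ne_zero σ).2 hc
  obtain ⟨y, hy, hlab⟩ := U.exists_lab z
  have hB := U.part_data hz h hy hlab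
  set p0 := U.crd (y⁻¹ • (t • a)) with hp0
  have hp : OnU σ p0 := (U.smul_b_eq (inv_mem hy)).1
  have h2 : p0.2 = z := (U.lab_inv hy).trans hlab
  have hγ : tr σ (p0.1 / z, 1 / z) = 1 := h2 ▸ U.tr_of_onU hp (h2.symm ▸ hz)
  set s : fixedSub σ := ⟨z * σ z, by
    show σ (z * σ z) = _
    rw [map_mul, U.hσ.invol, mul_comm]; rfl⟩ with hs
  have hs0 : (s : L) ≠ 0 := mul_ne_zero hz hz'
  have hconj := U.rel_smul (U.rel_coset_conj hγ) y
  rw [← hB, smul_inv_smul] at hconj
  set γ' : L × L := (σ (p0.1 / z), σ (1 / z)) with hγ'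
  have hγ'1 : tr σ γ' = 1 := tr_conj U hγ
  have hfib : U.Rel (U.fib z) (y • U.coset γ') := by
    have := U.rel_smul (U.rel_line_coset hγ'1) y
    rwa [U.fib_eq hy, hlab] at this
  have hmem : U.D.C.z s • (t • a) ∈ y • U.coset γ' := by
    rw [Set.mem_smul_set_iff_inv_smul_mem, ← mul_smul, U.z_comm (inv_mem hy), mul_smul,
      ← (U.smul_b_eq (inv_mem hy)).2, ← hp0, U.z_Phi s hp]
    refine ⟨σ z / z, ?_, ?_⟩
    · rw [map_div₀, U.hσ.invol]; field_simp
    · rw [U.Phi_ne (p := (p0.1 + s, p0.2)) (h2.symm ▸ hz)]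
      congr 1
      have hX : σ p0.1 = p0.1 + z * σ z := by
        unfold OnU at hp
        rw [h2] at hp
        linear_combination hp - (p0.1 + z * σ z) * two_L (L := L)
      simp only [sc, hγ', map_div₀, map_one, h2, hs, hX]
      refine Prod.ext ?_ ?_ <;> field_simp
  have hshift : U.Rel (U.fib z) (U.lam (σ c) s) := by
    have := U.rel_smul h (U.D.C.z s)
    rwa [U.z_smul_fib, U.z_smul_lam, zero_add] at this
  rw [U.fib_rel_unique hfib hshift hmem (Or.inl rfl)] at hconj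
  have ht := U.rel_smul hconj t
  have e1 : t • U.lam (σ c) 0 = U.fib (1 / σ c) := by
    conv_lhs => arg 2; rw [← one_div_one_div (σ c), ← U.t_smul_fib (one_div_ne_zero hc')]
    rw [← mul_smul, U.D.hS.mul_self, one_smul]
  set s' : fixedSub σ := ⟨1 / (s : L), by
    show σ (1 / (s : L)) = _
    rw [map_div₀, map_one, sigma_coe]; rfl⟩ with hs'
  have e2 : t • U.lam (σ c) s = U.lam (σ (c / s)) s' := by
    obtain ⟨p, hp', hpz, hp1⟩ := U.lam_point hc' s
    have hX := hp'.fst_ne hpz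
    have hon : OnU σ (1 / p.1, p.2 / p.1) := by
      have hX' : σ p.1 ≠ 0 := (map_ne_zero σ).2 hX
      unfold OnU at *
      simp only [map_div₀, map_one]
      field_simp
      linear_combination hp'
    have hsl : OnU σ ((s : L), 0) := by
      show (s : L) + σ s + 0 * σ 0 = 0
      rw [sigma_coe, zero_mul, add_zero, add_self_L]
    have htz : t • U.D.C.z s • (t • a) = U.D.C.z s' • (t • a) := by
      rw [← U.Phi_line, U.t_Phi hsl hs0, ← U.Phi_line]
      congr 1
      exact Prod.ext rfl (zero_div _)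
    have hne : U.D.C.z s' • (t • a) ≠ U.Phi (1 / p.1, p.2 / p.1) := by
      intro e
      have : U.Phi (1 / p.1, p.2 / p.1) ∈ U.D.line := e ▸ Or.inr ⟨s', rfl⟩
      exact div_ne_zero hpz hX ((U.Phi_mem_line hon).1 this)
    refine U.D.block_unique (LineData.IsBlock.smul' U.D (U.lam_block hc' s) t)
      (U.lam_block ((map_ne_zero σ).2 (div_ne_zero hc hs0)) s') hne
      ⟨_, Or.inl rfl, htz⟩ ⟨U.Phi p, Or.inr ⟨p, hp', hpz, hp1, rfl⟩, U.t_Phi hp' hX⟩
      (Or.inl rfl) (Or.inr ⟨_, hon, div_ne_zero hpz hX, ?_, rfl⟩)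
    show 1 / p.1 = (s' : L) + σ (c / s) * (p.2 / p.1)
    rw [map_div₀, sigma_coe]
    show 1 / p.1 = 1 / (s : L) + σ c / s * (p.2 / p.1)
    field_simp
    rw [hp1]
    linear_combination (-(σ c * p.2)) * two_L (L := L)
  rw [e1, e2] at ht
  have hpart : U.Part (1 / σ c) (c / s) := by
    have := U.rel_smul ht (U.D.C.z s')
    rwa [U.z_smul_fib, U.z_smul_lam, show s' + s' = 0 from U.D.add_self s'] at this
  -- homogeneity
  have hr0 : (r : L) ≠ 0 := fun h0 => hc (by rw [hr, h0, zero_mul])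
  set μ : fixedSub σ := ⟨1 / ((r : L) * (z * σ z)), by
    show σ (1 / ((r : L) * (z * σ z))) = _
    rw [map_div₀, map_one, map_mul, sigma_coe, map_mul, U.hσ.invol, mul_comm (σ z)]; rfl⟩ with hμ
  have hμ0 : μ ≠ 0 := fun h0 => one_div_ne_zero (mul_ne_zero hr0 hs0) (congrArg Subtype.val h0)
  have hp2 := U.part_smul hz hc h hμ0
  have e3 : (μ : L) * z = 1 / σ c := by
    show 1 / ((r : L) * (z * σ z)) * z = _
    rw [hr, map_mul, sigma_coe]
    field_simp
  rw [e3] at hp2
  have e4 := U.part_unique (one_div_ne_zero hc') (mul_ne_zero (one_div_ne_zero (mul_ne_zero hr0 hs0)) hc)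
    (div_ne_zero hc hs0) hp2 hpart
  have hr1 : (r : L) = 1 := by
    have e5 : 1 / ((r : L) * (z * σ z)) * c = c / (z * σ z) := e4
    field_simp at e5
    first
      | exact e5
      | exact e5.symm
      | linear_combination e5
      | linear_combination -e5
      | exact mul_left_cancel₀ hc (by linear_combination e5)
      | exact mul_left_cancel₀ hc (by linear_combination -e5)
  rw [hr, hr1, one_mul]

/-- Elements with labels of the same norm: the label of the product lies on the circle. -/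
theorem circle {y u : G} (hy : y ∈ Q) (hu : u ∈ Q) (hz : U.lab y ≠ 0)
    (hN : U.lab u * σ (U.lab u) = U.lab y * σ (U.lab y)) :
    (U.lab (y * u) + U.lab y) * σ (U.lab (y * u) + U.lab y) = U.lab y * σ (U.lab y) := by
  set z := U.lab y with hzdef
  set w := U.lab u with hwdef
  have hB := U.part_data hz (U.part_self hz) hy rfl
  set p0 := U.crd (y⁻¹ • (t • a)) with hp0
  have hp : OnU σ p0 := (U.smul_b_eq (inv_mem hy)).1
  have h2 : p0.2 = z := U.lab_inv hy
  have hw0 : w ≠ 0 := fun h0 => by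
    rw [h0, zero_mul] at hN
    exact mul_ne_zero hz ((map_ne_zero σ).2 hz) hN.symm
  have hμ : z / w * σ (z / w) = 1 := by
    rw [map_div₀, div_mul_div_comm, hN, div_self (mul_ne_zero hz ((map_ne_zero σ).2 hz))]
  obtain ⟨hq, e⟩ := U.pt_sc_eq hp (h2.symm ▸ hz) hμ
  rw [h2] at hq e
  obtain ⟨v, hv, hvb⟩ := U.exists_Q _ hq
  have hlv : U.lab v = w := by
    rw [lab, hvb, U.crd_Phi hq]
    show z / (z / w) = w
    field_simp
  rw [U.lab_mul_congr hy hy hu hv rfl hlv.symm]
  have hm : (y * v) • (t • a) ∈ U.lam (σ z) 0 := by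
    rw [mul_smul, hvb, ← e, ← inv_inv y, ← Set.mem_inv_smul_set_iff]
    simp only [inv_inv]
    rw [hB]
    exact ⟨z / w, hμ, rfl⟩
  rcases hm with hm | ⟨p, hp', hpz, hp1, he⟩
  · have : U.lab (y * v) = 0 := by
      rw [lab, hm, U.D.C.z_zero, one_smul, ← U.Phi_origin, U.crd_Phi (by simp [OnU])]
    rw [this, zero_add]
  · have hl : U.lab (y * v) = p.2 := by rw [lab, ← he, U.crd_Phi hp']
    rw [hl, map_add]
    rw [Subfield.coe_zero, zero_add] at hp1
    have h' := hp'
    unfold OnU at h'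
    rw [hp1, map_mul, U.hσ.invol] at h'
    linear_combination h'

theorem add_of_norm_eq {y u : G} (hy : y ∈ Q) (hu : u ∈ Q)
    (hN : U.lab u * σ (U.lab u) = U.lab y * σ (U.lab y)) :
    U.lab (y * u) = U.lab y + U.lab u := by
  by_cases hne : U.lab u = U.lab y
  · rw [hne, add_self_L, U.lab_mul_congr hy hy hu hy rfl hne, U.lab_sq hy]
  by_cases hz : U.lab y = 0
  · exfalso
    rw [hz, zero_mul] at hN
    refine hne ((mul_self_eq_zero (a := U.lab u)).1 ?_ |>.trans hz.symm)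
    rcases mul_eq_zero.1 hN with h0 | h0
    · rw [h0, mul_zero]
    · rw [(map_eq_zero σ).1 h0, mul_zero]
  have hz' : U.lab u ≠ 0 := fun h0 => by
    rw [h0, zero_mul] at hN
    exact mul_ne_zero hz ((map_ne_zero σ).2 hz) hN.symm
  have h1 := U.circle hy hu hz hN
  have h1' := U.circle hu hy hz' hN.symm
  rw [← U.lab_comm hy hu] at h1'
  set z := U.lab y
  set z' := U.lab u
  set w := U.lab (y * u) with hw
  have hw0 : w ≠ 0 := by
    intro h0
    refine hne (U.lab_left_cancel hy hu hy ?_)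
    rw [← hw, h0, U.lab_sq hy]
  set d := z + z' with hd
  have hd0 : d ≠ 0 := fun h0 => hne (eq_of_add h0).symm
  have hd0' : σ d ≠ 0 := (map_ne_zero σ).2 hd0
  rw [map_add] at h1 h1'
  have e1 : w * σ d + σ w * d = 0 := by
    rw [hd, map_add]
    linear_combination h1 - h1' + (w * σ z' + σ w * z') * two_L (L := L)
  set lam' := w / d with hlam
  have hfix : σ lam' = lam' := by
    rw [hlam, map_div₀, div_eq_div_iff hd0' hd0]
    linear_combination e1 - (w * σ d) * two_L (L := L)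
  have hwd : w = lam' * d := by rw [hlam, div_mul_cancel₀ w hd0]
  have hσw : σ w = lam' * σ d := by rw [hwd, map_mul, hfix]
  rw [hσw, hwd] at h1
  have hS : z' * σ z + σ z' * z ≠ 0 := by
    intro h0
    have hd2 : d * σ d = 0 := by
      rw [hd, map_add]
      linear_combination h0 + hN + (z * σ z) * two_L (L := L)
    exact mul_ne_zero hd0 hd0' hd2
  have e2 : lam' * (lam' + 1) * (z' * σ z + σ z' * z) = 0 := by
    rw [hd, map_add] at h1
    linear_combination h1 - lam' ^ 2 * hN - (lam' ^ 2 * (z * σ z) + lam' * (z * σ z)) * two_L (L := L)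
  rcases mul_eq_zero.1 e2 with e2 | e2
  · rcases mul_eq_zero.1 e2 with e2 | e2
    · exact absurd (by rw [hwd, e2, zero_mul]) hw0
    · rw [hwd, eq_of_add e2, one_mul]
  · exact absurd e2 hS

theorem add_of_nonparallel {y u : G} (hy : y ∈ Q) (hu : u ∈ Q)
    (hD : U.lab y * σ (U.lab u) + σ (U.lab y) * U.lab u ≠ 0) :
    U.lab (y * u) = U.lab y + U.lab u := by
  set z := U.lab y with hz
  set z' := U.lab u with hz'
  set T := z * σ z' + σ z * z' with hT
  have hTf : σ T = T := by rw [hT, map_add, map_mul, map_mul, U.hσ.invol, U.hσ.invol]; ring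
  set z1 := (z' * σ z' * z + z * σ z * z') / T with hz1
  obtain ⟨v, hv, hlv⟩ := U.exists_lab z1
  have hσ1 : σ z1 = (σ z' * z' * σ z + σ z * z * σ z') / T := by
    rw [hz1, map_div₀, hTf, map_add, map_mul, map_mul, map_mul, map_mul, U.hσ.invol, U.hσ.invol]
  have e1 : z * σ z1 + σ z * z1 = z * σ z := by
    rw [hσ1, hz1]
    field_simp
    rw [hT]
    linear_combination (z * σ z * z' * σ z') * two_L (L := L)
  have e2 : z' * σ z1 + σ z' * z1 = z' * σ z' := by
    rw [hσ1, hz1]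
    field_simp
    rw [hT]
    linear_combination (z * σ z * z' * σ z') * two_L (L := L)
  have key : ∀ x ∈ Q, U.lab x * σ z1 + σ (U.lab x) * z1 = U.lab x * σ (U.lab x) →
      U.lab (x * v) = U.lab x + z1 ∧
        (U.lab x + z1) * σ (U.lab x + z1) = z1 * σ z1 := by
    intro x hx hxe
    have hnorm : (U.lab x + z1) * σ (U.lab x + z1) = z1 * σ z1 := by
      rw [map_add]
      linear_combination hxe + (U.lab x * σ (U.lab x)) * two_L (L := L)
    refine ⟨?_, hnorm⟩
    obtain ⟨x', hx', hlx'⟩ := U.exists_lab (U.lab x + z1)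
    have h := U.add_of_norm_eq hv hx' (by rw [hlv, hlx', hnorm])
    rw [hlv, hlx'] at h
    have h' : U.lab (v * x') = U.lab x := by
      rw [h]; linear_combination z1 * two_L (L := L)
    rw [← hlx', U.lab_mul_congr hx (mul_mem hv hx') hv hv h'.symm rfl, U.lab_comm (mul_mem hv hx') hv,
      ← mul_assoc]
    have h0 := U.lab_mul_congr (mul_mem hv hv) (one_mem Q) hx' hx' ((U.lab_sq hv).trans U.lab_one.symm) rfl
    rwa [one_mul] at h0
  obtain ⟨hA, hA'⟩ := key y hy e1
  obtain ⟨hB, hB'⟩ := key u hu e2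
  have h := U.add_of_norm_eq (mul_mem hy hv) (mul_mem hu hv) (by rw [hA, hB, ← hz, ← hz', hA', hB'])
  rw [hA, hB] at h
  have e : U.lab (y * v * (u * v)) = U.lab (y * u) := by
    have h1 : U.lab (v * (u * v)) = U.lab u := by
      rw [U.lab_comm hv (mul_mem hu hv), mul_assoc]
      have h0 := U.lab_mul_congr hu hu (mul_mem hv hv) (one_mem Q) rfl ((U.lab_sq hv).trans U.lab_one.symm)
      rwa [mul_one] at h0
    rw [mul_assoc]
    exact U.lab_mul_congr hy hy (mul_mem hv (mul_mem hu hv)) hu rfl h1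
  rw [← e, h]
  linear_combination z1 * two_L (L := L)

/-- Labels add. -/
theorem lab_mul {y u : G} (hy : y ∈ Q) (hu : u ∈ Q) : U.lab (y * u) = U.lab y + U.lab u := by
  by_cases hy0 : U.lab y = 0
  · rw [hy0, zero_add, U.lab_mul_congr hy (one_mem Q) hu hu (hy0.trans U.lab_one.symm) rfl, one_mul]
  by_cases hD : U.lab y * σ (U.lab u) + σ (U.lab y) * U.lab u = 0
  swap
  · exact U.add_of_nonparallel hy hu hD
  have hz' : σ (U.lab y) ≠ 0 := (map_ne_zero σ).2 hy0
  have hfix : σ (U.lab u / U.lab y) = U.lab u / U.lab y := by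
    rw [map_div₀, div_eq_div_iff hz' hy0]
    linear_combination hD - (σ (U.lab y) * U.lab u) * two_L (L := L)
  set μ : fixedSub σ := ⟨U.lab u / U.lab y, hfix⟩ with hμ
  have hμe : U.lab u = (μ : L) * U.lab y := (div_mul_cancel₀ _ hy0).symm
  obtain ⟨ν, hν⟩ := U.quotient_facts.2.2 y hy u hu μ hμe
  -- an auxiliary label not parallel to `lab y`
  set c := U.ζ * U.lab y with hc
  obtain ⟨v, hv, hlv⟩ := U.exists_lab c
  have hDc : ∀ r : fixedSub σ, r ≠ 0 →
      (r : L) * U.lab y * σ c + σ ((r : L) * U.lab y) * c ≠ 0 := by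
    intro r hr h0
    have hr' : (r : L) ≠ 0 := fun h => hr (Subtype.ext h)
    rw [hc, map_mul, map_mul, sigma_coe] at h0
    have : (r : L) * (U.lab y * σ (U.lab y)) * (σ U.ζ + U.ζ) = 0 := by linear_combination h0
    exact U.hζ (eq_of_add ((mul_eq_zero.1 this).resolve_left (mul_ne_zero hr' (mul_ne_zero hy0 hz'))))
  by_cases hμ0 : μ = 0
  · rw [hμ0, Subfield.coe_zero, zero_mul] at hμe
    rw [hμe, add_zero, U.lab_mul_congr hy hy hu (one_mem Q) rfl (hμe.trans U.lab_one.symm), mul_one]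
  have h1 : U.lab (u * v) = U.lab u + c :=
    hlv ▸ U.add_of_nonparallel hu hv (by rw [hlv, hμe]; exact hDc μ hμ0)
  have h2 : U.lab (y * (u * v)) = U.lab y + (U.lab u + c) := by
    refine h1 ▸ U.add_of_nonparallel hy (mul_mem hu hv) ?_
    rw [h1, hμe, map_add, map_mul, sigma_coe]
    have := hDc 1 one_ne_zero
    rw [Subfield.coe_one, one_mul] at this
    intro h0
    exact this (by linear_combination h0 - ((μ : L) * U.lab y * σ (U.lab y)) * two_L (L := L))
  by_cases hν0 : ν = 0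
  · rw [hν0, Subfield.coe_zero, zero_mul] at hν
    have h3 : U.lab (y * (u * v)) = c := by
      rw [← mul_assoc, U.lab_mul_congr (mul_mem hy hu) (one_mem Q) hv hv (hν.trans U.lab_one.symm) rfl,
        one_mul, hlv]
    rw [h3] at h2
    rw [hν]
    linear_combination h2
  have h3 : U.lab (y * u * v) = U.lab (y * u) + c :=
    hlv ▸ U.add_of_nonparallel (mul_mem hy hu) hv (by rw [hlv, hν]; exact hDc ν hν0)
  rw [mul_assoc, h2] at h3
  linear_combination -h3

end UData

end CfsgLib.Lie.RankOneClass.Ident
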