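import Cfsg.Agent.Lib.Lie.RankOneClass.Ident.Wact
import Cfsg.Agent.Lib.Classical.Unitary.Field
import Cfsg.Agent.Lib.OddLocal.Final.OddOrder
import Mathlib.RingTheory.RootsOfUnity.PrimitiveRoots

/-!
Owner: helper20 (slice H). An element `w₀` of prime order of `W`, normalised by `D`, acts on the
complement of the line as a scalar `ζ` of norm one, after the complement is identified with the
vectors `(u, v)` over the field `L` of `q²` elements with `u v̄ + ū v = 1`.
-/

set_option autoImplicit false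
set_option linter.all false

namespace CfsgLib.Lie.RankOneClass.Ident

open MulAction CfsgLib.Lie.RankOne Matrix CfsgLib.Classical.Herm

variable {L : Type} [Field L] {σ : L →+* L}

/-- The hermitian norm of a vector. -/
def tr (σ : L →+* L) (w : L × L) : L := w.1 * σ w.2 + σ w.1 * w.2

/-- The scalar multiple of a vector. -/
def sc (μ : L) (w : L × L) : L × L := (μ * w.1, μ * w.2)

theorem sc_sc (μ ν : L) (w : L × L) : sc μ (sc ν w) = sc (μ * ν) w :=
  Prod.ext (mul_assoc μ ν _).symm (mul_assoc μ ν _).symm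

theorem sc_one (w : L × L) : sc 1 w = w := Prod.ext (one_mul _) (one_mul _)

theorem tr_sc (μ : L) (w : L × L) : tr σ (sc μ w) = μ * σ μ * tr σ w := by
  simp only [tr, sc, map_mul]
  ring

theorem ne_zero_of_tr {w : L × L} (h : tr σ w = 1) : w ≠ 0 := by
  rintro rfl
  simp [tr] at h

theorem sc_eq_self {μ : L} {w : L × L} (hw : w ≠ 0) (h : sc μ w = w) : μ = 1 := by
  have h1 : μ * w.1 = w.1 := congrArg Prod.fst h
  have h2 : μ * w.2 = w.2 := congrArg Prod.snd h
  by_contra hne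
  refine hw (Prod.ext ?_ ?_)
  · by_contra hx
    exact hne (mul_right_cancel₀ hx (h1.trans (one_mul _).symm))
  · by_contra hx
    exact hne (mul_right_cancel₀ hx (h2.trans (one_mul _).symm))

/-- A matrix over the fixed field, applied to a vector over `L`. -/
def appL (M : SpecialLinearGroup (Fin 2) (fixedSub σ)) (w : L × L) : L × L :=
  ((M 0 0 : L) * w.1 + (M 0 1 : L) * w.2, (M 1 0 : L) * w.1 + (M 1 1 : L) * w.2)

theorem appL_mul (M N : SpecialLinearGroup (Fin 2) (fixedSub σ)) (w : L × L) :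
    appL (M * N) w = appL M (appL N w) := by
  have e : ∀ i j, (M * N) i j = M i 0 * N 0 j + M i 1 * N 1 j := fun i j =>
    (Matrix.mul_apply (M := M.1) (N := N.1)).trans (Fin.sum_univ_two _)
  simp only [appL, e, Subfield.coe_add, Subfield.coe_mul]
  exact Prod.ext (by ring) (by ring)

theorem appL_one (w : L × L) : appL (1 : SpecialLinearGroup (Fin 2) (fixedSub σ)) w = w := by
  simp [appL]

theorem appL_inv (M : SpecialLinearGroup (Fin 2) (fixedSub σ)) (w : L × L) :
    appL M⁻¹ (appL M w) = w := by rw [← appL_mul, inv_mul_cancel, appL_one]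

theorem appL_sc (M : SpecialLinearGroup (Fin 2) (fixedSub σ)) (μ : L) (w : L × L) :
    appL M (sc μ w) = sc μ (appL M w) := by
  simp only [appL, sc]
  exact Prod.ext (by ring) (by ring)

theorem appL_pow {M : SpecialLinearGroup (Fin 2) (fixedSub σ)} {μ : L} {w : L × L}
    (h : appL M w = sc μ w) : ∀ n : ℕ, appL (M ^ n) w = sc (μ ^ n) w
  | 0 => by rw [pow_zero, pow_zero, appL_one, sc_one]
  | n + 1 => by rw [pow_succ, appL_mul, h, appL_sc, appL_pow h n, sc_sc, pow_succ']

theorem sigma_coe (x : fixedSub σ) : σ (x : L) = x := x.2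

section CharTwo

variable [CharP L 2]

theorem two_L : (2 : L) = 0 := CharP.ofNat_eq_zero L 2

theorem add_self_L (x : L) : x + x = 0 := by linear_combination x * two_L (L := L)

theorem eq_of_add {x y : L} (h : x + y = 0) : x = y := by
  linear_combination h - y * two_L (L := L)

theorem detL (M : SpecialLinearGroup (Fin 2) (fixedSub σ)) :
    (M 0 0 : L) * M 1 1 + (M 0 1 : L) * M 1 0 = 1 := by
  have h := congrArg (Subtype.val : fixedSub σ → L) M.det_coe
  rw [Matrix.det_fin_two] at h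
  simp only [Subfield.coe_sub, Subfield.coe_mul, Subfield.coe_one] at h
  linear_combination h + ((M 0 1 : L) * M 1 0) * two_L (L := L)

theorem alt_appL (M : SpecialLinearGroup (Fin 2) (fixedSub σ)) (x y : L × L) :
    (appL M x).1 * (appL M y).2 + (appL M x).2 * (appL M y).1 = x.1 * y.2 + x.2 * y.1 := by
  simp only [appL]
  linear_combination (x.1 * y.2 + x.2 * y.1) * detL M +
    ((M 0 0 : L) * M 1 0 * (x.1 * y.1) + (M 0 1 : L) * M 1 1 * (x.2 * y.2)) * two_L (L := L)

theorem tr_appL (M : SpecialLinearGroup (Fin 2) (fixedSub σ)) (w : L × L) :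
    tr σ (appL M w) = tr σ w := by
  have h := alt_appL M w (σ w.1, σ w.2)
  simp only [tr, appL, map_add, map_mul, sigma_coe] at *
  linear_combination h

/-- Two eigenvectors for the same eigenvalue other than one are parallel. -/
theorem alt_eq_zero {M : SpecialLinearGroup (Fin 2) (fixedSub σ)} {μ : L} (hμ : μ ≠ 1)
    {x y : L × L} (hx : appL M x = sc μ x) (hy : appL M y = sc μ y) :
    x.1 * y.2 + x.2 * y.1 = 0 := by
  have h := alt_appL M x y
  rw [hx, hy] at h
  have h1 : (μ + 1) * (μ + 1) * (x.1 * y.2 + x.2 * y.1) = 0 := by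
    simp only [sc] at h
    linear_combination h + (x.1 * y.2 + x.2 * y.1) * (μ + 1) * two_L (L := L)
  simp only [mul_eq_zero, or_self] at h1
  exact h1.resolve_left fun e => hμ (eq_of_add e)

/-- A vector parallel to one of norm one is a multiple of it. -/
theorem eq_sc_of_alt {x y : L × L} (hx : tr σ x = 1) (h : x.1 * y.2 + x.2 * y.1 = 0) :
    y = sc (y.1 * σ x.2 + y.2 * σ x.1) x := by
  unfold tr at hx
  refine Prod.ext ?_ ?_ <;> simp only [sc]
  · linear_combination (-y.1) * hx - (σ x.1) * h + (σ x.1 * x.2 * y.1) * two_L (L := L)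
  · linear_combination (-y.2) * hx - (σ x.2) * h + (x.1 * σ x.2 * y.2) * two_L (L := L)

end CharTwo

variable [Fintype L] [CharP L 2] [Fintype (fixedSub σ)]

/-- The complement of the line as vectors of norm one over `L`. -/
structure EData (G Ω : Type*) [Group G] [MulAction G Ω] (a : Ω) (t : G) (Q : Subgroup G)
    [Finite G] [FaithfulSMul G Ω] (L : Type) [Field L] (σ : L →+* L)
    [Fintype (fixedSub σ)] where
  hσ : IsInvol σ
  D : LineData G Ω a t Q (fixedSub σ)
  hN : Nat.card Q = Fintype.card (fixedSub σ) ^ 3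
  hC : ∀ w ∈ Wg a t, w ≠ 1 → ∀ y ∈ Q, w * y = y * w →
    y = 1 ∨ y ∈ Cfsg.involutionsIn (stabilizer G a : Set G)
  c : Ω
  hc : c ∉ D.line
  e : L × L
  he : tr σ e = 1

namespace EData

variable {G Ω : Type*} [Group G] [MulAction G Ω] {a : Ω} {t : G} {Q : Subgroup G}
  [Finite G] [FaithfulSMul G Ω] (E : EData G Ω a t Q L σ)

include E

omit [Fintype L] in
theorem trace_fix (x y : L) : σ (x * σ y + σ x * y) = x * σ y + σ x * y := by
  rw [map_add, map_mul, map_mul, E.hσ.invol, E.hσ.invol]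
  ring

/-- The coefficients of the matrix sending `e` to a vector. -/
def co (x y : L) : fixedSub σ := ⟨x * σ y + σ x * y, E.trace_fix x y⟩

omit [Fintype L] in
theorem det_co {γ : L × L} (h : tr σ γ = 1) :
    E.co γ.1 E.e.2 * E.co γ.2 E.e.1 + E.co γ.1 E.e.1 * E.co γ.2 E.e.2 = 1 := by
  apply Subtype.ext
  have he := E.he
  simp only [co, tr, Subfield.coe_add, Subfield.coe_mul, Subfield.coe_one] at *
  linear_combination (E.e.1 * σ E.e.2 + σ E.e.1 * E.e.2) * h + he +
    (γ.1 * γ.2 * σ E.e.1 * σ E.e.2 + σ γ.1 * σ γ.2 * E.e.1 * E.e.2) * two_L (L := L)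

/-- The matrix sending `e` to a vector of norm one. -/
noncomputable def matOf (γ : L × L) : SpecialLinearGroup (Fin 2) (fixedSub σ) :=
  haveI := Classical.propDecidable (tr σ γ = 1)
  if h : tr σ γ = 1 then
    E.D.mat (E.co γ.1 E.e.2) (E.co γ.1 E.e.1) (E.co γ.2 E.e.2) (E.co γ.2 E.e.1) (E.det_co h)
  else 1

theorem matOf_spec {γ : L × L} (h : tr σ γ = 1) : appL (E.matOf γ) E.e = γ := by
  rw [matOf, dif_pos h]
  obtain ⟨e1, e2, e3, e4⟩ := E.D.mat_apply (E.co γ.1 E.e.2) (E.co γ.1 E.e.1) (E.co γ.2 E.e.2)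
    (E.co γ.2 E.e.1) (E.det_co h)
  have he := E.he
  simp only [appL, e1, e2, e3, e4, co, tr] at *
  refine Prod.ext ?_ ?_
  · linear_combination γ.1 * he + (σ γ.1 * E.e.1 * E.e.2) * two_L (L := L)
  · linear_combination γ.2 * he + (σ γ.2 * E.e.1 * E.e.2) * two_L (L := L)

theorem ext_e {M N : SpecialLinearGroup (Fin 2) (fixedSub σ)} (h : appL M E.e = appL N E.e) :
    M = N := by
  have key : ∀ P : SpecialLinearGroup (Fin 2) (fixedSub σ), ∀ i : Fin 2,
      E.co ((P i 0 : L) * E.e.1 + (P i 1 : L) * E.e.2) E.e.2 = P i 0 ∧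
      E.co ((P i 0 : L) * E.e.1 + (P i 1 : L) * E.e.2) E.e.1 = P i 1 := by
    intro P i
    have he := E.he
    constructor <;> apply Subtype.ext <;> simp only [co, map_add, map_mul, sigma_coe, tr] at *
    · linear_combination (P i 0 : L) * he + ((P i 1 : L) * E.e.2 * σ E.e.2) * two_L (L := L)
    · linear_combination (P i 1 : L) * he + ((P i 0 : L) * E.e.1 * σ E.e.1) * two_L (L := L)
  have h1 : (M 0 0 : L) * E.e.1 + (M 0 1 : L) * E.e.2 = (N 0 0 : L) * E.e.1 + (N 0 1 : L) * E.e.2 :=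
    congrArg Prod.fst h
  have h2 : (M 1 0 : L) * E.e.1 + (M 1 1 : L) * E.e.2 = (N 1 0 : L) * E.e.1 + (N 1 1 : L) * E.e.2 :=
    congrArg Prod.snd h
  ext i j
  fin_cases i <;> fin_cases j
  · exact congrArg Subtype.val ((key M 0).1.symm.trans ((by rw [h1] : _ = _).trans (key N 0).1))
  · exact congrArg Subtype.val ((key M 0).2.symm.trans ((by rw [h1] : _ = _).trans (key N 0).2))
  · exact congrArg Subtype.val ((key M 1).1.symm.trans ((by rw [h2] : _ = _).trans (key N 1).1))
  · exact congrArg Subtype.val ((key M 1).2.symm.trans ((by rw [h2] : _ = _).trans (key N 1).2))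

/-- The point of a vector of norm one. -/
noncomputable def pt (γ : L × L) : Ω := E.D.hom (E.matOf γ) • E.c

theorem pt_notMem (γ : L × L) : E.pt γ ∉ E.D.line := E.D.notMem_smul (E.D.hom_mem _) E.hc

theorem pt_app (M : SpecialLinearGroup (Fin 2) (fixedSub σ)) :
    E.pt (appL M E.e) = E.D.hom M • E.c := by
  rw [pt, E.ext_e (E.matOf_spec (γ := appL M E.e) (by rw [tr_appL, E.he]))]

theorem hom_pt (M : SpecialLinearGroup (Fin 2) (fixedSub σ)) {γ : L × L} (h : tr σ γ = 1) :
    E.D.hom M • E.pt γ = E.pt (appL M γ) := by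
  conv_rhs => rw [← E.matOf_spec h, ← appL_mul, E.pt_app, map_mul, mul_smul]
  rfl

theorem pt_inj {γ γ' : L × L} (h : tr σ γ = 1) (h' : tr σ γ' = 1) (e : E.pt γ = E.pt γ') :
    γ = γ' := by
  rw [← E.matOf_spec h, ← E.matOf_spec h', E.D.hom_c_inj E.hN E.hc e]

theorem pt_surj {p : Ω} (hp : p ∉ E.D.line) : ∃ γ, tr σ γ = 1 ∧ E.pt γ = p := by
  obtain ⟨M, hM, -⟩ := E.D.regular E.hN E.hc hp
  exact ⟨appL M E.e, by rw [tr_appL, E.he], by rw [E.pt_app, hM]⟩

/-- An element of `W` whose matrix scales `e` scales all vectors. -/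
theorem W_pt {w : G} (hw : w ∈ Wg a t) {μ : L}
    (hμ : appL (E.D.rho E.hN E.hc w) E.e = sc μ E.e) :
    μ * σ μ = 1 ∧ ∀ γ, tr σ γ = 1 → w • E.pt γ = E.pt (sc μ γ) := by
  refine ⟨?_, fun γ h => ?_⟩
  · have h := congrArg (tr σ) hμ
    rwa [tr_appL, tr_sc, E.he, mul_one, eq_comm] at h
  · conv_rhs => rw [← E.matOf_spec h, ← appL_sc, ← hμ, ← appL_mul, E.pt_app]
    exact E.D.W_smul E.hN E.hc hw _

theorem rho_inj {w w' : G} (hw : w ∈ Wg a t) (hw' : w' ∈ Wg a t)
    (h : E.D.rho E.hN E.hc w = E.D.rho E.hN E.hc w') : w = w' := by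
  by_contra hne
  have hmem := mul_mem (inv_mem hw') hw
  refine E.hc (E.D.W_fix E.hC hmem (fun e => hne (inv_mul_eq_one.1 e).symm) ?_)
  rw [mul_smul, ← E.D.rho_spec E.hN E.hc hw, h, E.D.rho_spec E.hN E.hc hw', inv_smul_smul]

/-- An element of `W` commuting with one that scales `e` scales `e`. -/
theorem scale_of_commute {w w0 : G} (hw : w ∈ Wg a t) (hw0 : w0 ∈ Wg a t) (hcm : w * w0 = w0 * w)
    {ζ : L} (hζ : appL (E.D.rho E.hN E.hc w0) E.e = sc ζ E.e) (hζ1 : ζ ≠ 1) :
    ∃ μ : L, appL (E.D.rho E.hN E.hc w) E.e = sc μ E.e := by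
  set R := E.D.rho E.hN E.hc w0
  set S := E.D.rho E.hN E.hc w
  have hRS : R * S = S * R := by
    rw [← E.D.rho_mul E.hN E.hc hw hw0, ← E.D.rho_mul E.hN E.hc hw0 hw, hcm]
  have h : appL R (appL S E.e) = sc ζ (appL S E.e) := by
    rw [← appL_mul, hRS, appL_mul, hζ, appL_sc]
  exact ⟨_, eq_sc_of_alt E.he (alt_eq_zero hζ1 hζ h)⟩

end EData

/-- The unitary data: an element `w₀` of prime order of `W`, normalised by `D`, scaling by `ζ`. -/
structure UData (G Ω : Type*) [Group G] [MulAction G Ω] (a : Ω) (t : G) (Q : Subgroup G)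
    [Finite G] [FaithfulSMul G Ω] (L : Type) [Field L] (σ : L →+* L)
    [Fintype (fixedSub σ)] extends EData G Ω a t Q L σ where
  w0 : G
  hw0 : w0 ∈ Wg a t
  l : ℕ
  hl : l.Prime
  hl2 : l ≠ 2
  hord : orderOf w0 = l
  hdvd : l ∣ Fintype.card (fixedSub σ) + 1
  ζ : L
  hζ : ζ ∉ fixedSub σ
  heig : appL (D.rho hN hc w0) e = sc ζ e
  hnorm : ∀ d ∈ (stabilizer G a ⊓ stabilizer G (t • a) : Subgroup G), ∃ i : ℕ,
    d * w0 * d⁻¹ = w0 ^ i

variable {G Ω : Type*} [Group G] [MulAction G Ω] {a : Ω} {t : G} {Q : Subgroup G}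
  [Finite G] [FaithfulSMul G Ω]

theorem exists_notMem_line (D : LineData G Ω a t Q (fixedSub σ))
    (hN : Nat.card Q = Fintype.card (fixedSub σ) ^ 3) : ∃ c, c ∉ D.line := by
  by_contra h
  push Not at h
  have h1 := (card_points D.hS).2
  rw [← Nat.card_univ, show (Set.univ : Set Ω) = D.line from (Set.eq_univ_of_forall h).symm,
    D.card_line, hN] at h1
  have : 1 < Fintype.card (fixedSub σ) := Fintype.one_lt_card
  nlinarith [Nat.mul_le_mul this this]

omit [CharP L 2] in
theorem card_L (hσ : IsInvol σ) : Fintype.card L = Fintype.card (fixedSub σ) ^ 2 := by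
  rw [← Nat.card_eq_fintype_card, hσ.card_sq, Nat.card_eq_fintype_card]

theorem exists_udata (hσ : IsInvol σ) (D : LineData G Ω a t Q (fixedSub σ))
    (hN : Nat.card Q = Fintype.card (fixedSub σ) ^ 3)
    (hC : ∀ w ∈ Wg a t, w ≠ 1 → ∀ y ∈ Q, w * y = y * w →
      y = 1 ∨ y ∈ Cfsg.involutionsIn (stabilizer G a : Set G))
    (hw : Wg (a := a) t ≠ ⊥) : Nonempty (UData G Ω a t Q L σ) := by
  classical
  obtain ⟨c, hc⟩ := exists_notMem_line D hN
  have hoddW : Odd (Nat.card (Wg (a := a) t)) :=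
    (odd_card_Vg D.hS).of_dvd_nat (Subgroup.card_dvd_of_le (Wg_le_Vg D.hS))
  have hsol := CfsgLib.OddLocal.FTFinal.odd_order_solvable hoddW
  obtain ⟨A, hAW, hAne, hAcomm, hAinv⟩ := exists_abelian_invariant (Wg (a := a) t) hsol hw
  obtain ⟨l, hl, hldvd⟩ := Nat.exists_prime_and_dvd
    (show Nat.card A ≠ 1 from fun h => hAne (Subgroup.card_eq_one.1 h))
  haveI := Fact.mk hl
  obtain ⟨⟨w0, hw0A⟩, hord'⟩ := exists_prime_orderOf_dvd_card' l hldvd
  have hord : orderOf w0 = l := by rw [← hord', Subgroup.orderOf_mk]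
  have hw0 := hAW hw0A
  have hw1 : w0 ≠ 1 := fun h => hl.ne_one (by rw [← hord, h, orderOf_one])
  have hlodd : Odd l := hord ▸ D_odd D.hS (mem_Wg.1 hw0).1
  have hl2 : l ≠ 2 := fun h => by rw [h] at hlodd; exact absurd hlodd (by decide)
  set R := D.rho hN hc w0 with hR
  have hRl : R ^ l = 1 := by
    rw [hR, ← D.rho_pow hN hc hw0, ← hord, pow_orderOf_eq_one, D.rho_one]
  have hR1 : R ≠ 1 := fun h => D.rho_no_line hN hc hC hw0 hw1 (v := (1, 0))
    (by simp [Prod.ext_iff]) (by rw [← hR, h, app_one])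
  have hRord : orderOf R = l := orderOf_eq_prime hRl hR1
  set q := Fintype.card (fixedSub σ) with hq
  haveI := D.C.charTwo
  obtain ⟨n, -, hqn⟩ := FiniteField.card (fixedSub σ) 2
  have hq1 : 1 < q := Fintype.one_lt_card
  have hsq : l ∣ q ^ 2 - 1 := by
    have h := orderOf_dvd_natCard R
    rw [hRord, CfsgLib.Classical.Two.card_SL_two, ← hq] at h
    refine (hl.dvd_mul.1 h).resolve_left fun h' => hl2 ?_
    rw [hq, hqn] at h'
    exact (Nat.prime_dvd_prime_iff_eq hl Nat.prime_two).1 (hl.dvd_of_dvd_pow h')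
  -- `l` does not divide `q - 1`
  have noF : ∀ c' : fixedSub σ, ∀ v : Fin 2 → fixedSub σ, v ≠ 0 →
      R.1.mulVec v = c' • v → False := by
    intro c' v hv hMv
    have hv' : ((v 0, v 1) : fixedSub σ × fixedSub σ) ≠ 0 := fun e => hv (by
      funext i
      fin_cases i
      · exact congrArg Prod.fst e
      · exact congrArg Prod.snd e)
    have e : app R (v 0, v 1) = (c' * v 0, c' * v 1) := by
      have h0 := congrFun hMv 0
      have h1 := congrFun hMv 1
      simp [Matrix.mulVec, dotProduct, Fin.sum_univ_two] at h0 h1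
      exact Prod.ext h0 h1
    have hc0 : c' ≠ 0 := fun hc' => app_ne_zero R hv' (by rw [e, hc']; simp)
    exact D.rho_no_line hN hc hC hw0 hw1 hv' (by rw [← hR, e]; exact D.ptv_smul hc0 (v 0, v 1))
  have hpred : ¬ l ∣ q - 1 := by
    intro h
    have hRq : R ^ q = R := by
      obtain ⟨k, hk⟩ := h
      rw [show q = l * k + 1 by omega, pow_succ, pow_mul, hRl, one_pow, one_mul]
    obtain ⟨c', v, hv, hMv⟩ := exists_eigen R.1 (by
      rw [← hq]; exact congrArg Subtype.val hRq)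
    exact noF c' v hv hMv
  have hdvd : l ∣ q + 1 := by
    rw [show q ^ 2 - 1 = (q + 1) * (q - 1) by rw [← Nat.sq_sub_sq, one_pow]] at hsq
    exact (hl.dvd_mul.1 hsq).resolve_right hpred
  -- the eigenvector over `L`
  set RL := SpecialLinearGroup.map (fixedSub σ).subtype R with hRL
  obtain ⟨ζ, v, hv, hv'⟩ := exists_eigen RL.1 (by
    have : RL ^ Fintype.card L = RL := by
      rw [hRL, ← map_pow, card_L hσ, ← hq]
      congr 1
      obtain ⟨k, hk⟩ := hsq
      have : 1 ≤ q ^ 2 := Nat.one_le_pow _ _ (by omega)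
      rw [show q ^ 2 = l * k + 1 by omega, pow_succ, pow_mul, hRl, one_pow, one_mul]
    exact congrArg Subtype.val this)
  have heq : appL R (v 0, v 1) = sc ζ (v 0, v 1) := by
    have h0 := congrFun hv' 0
    have h1 := congrFun hv' 1
    simp [hRL, Matrix.mulVec, dotProduct, Fin.sum_univ_two] at h0 h1
    exact Prod.ext h0 h1
  -- a vector over the fixed field proportional to an eigenvector is impossible
  have noPar : ∀ (r : L) (x y : fixedSub σ), r ≠ 0 → ((x, y) : fixedSub σ × fixedSub σ) ≠ 0 →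
      (v 0, v 1) = sc r ((x : L), (y : L)) → False := by
    intro r x y hr hxy hvr
    have h : appL R ((x : L), (y : L)) = sc ζ ((x : L), (y : L)) := by
      rw [hvr, appL_sc, sc_sc, mul_comm ζ r, ← sc_sc] at heq
      have e1 := congrArg Prod.fst heq
      have e2 := congrArg Prod.snd heq
      exact Prod.ext (mul_left_cancel₀ hr e1) (mul_left_cancel₀ hr e2)
    have h1 : ((app R (x, y)).1 : L) = ζ * x := by simpa [appL, app, sc] using congrArg Prod.fst h
    have h2 : ((app R (x, y)).2 : L) = ζ * y := by simpa [appL, app, sc] using congrArg Prod.snd h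
    have hmem : ζ ∈ fixedSub σ := by
      by_cases hx : x = 0
      · have hy : (y : L) ≠ 0 := fun hy => hxy (Prod.ext hx (Subtype.ext hy))
        rw [eq_div_iff hy |>.2 h2.symm]
        exact div_mem (Subtype.mem _) (Subtype.mem _)
      · have hx' : (x : L) ≠ 0 := fun hx' => hx (Subtype.ext hx')
        rw [eq_div_iff hx' |>.2 h1.symm]
        exact div_mem (Subtype.mem _) (Subtype.mem _)
    refine noF ⟨ζ, hmem⟩ ![x, y] (fun e => hxy (Prod.ext (congrFun e 0) (congrFun e 1))) ?_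
    funext i
    fin_cases i <;> apply Subtype.ext <;> simp [Matrix.mulVec, dotProduct, Fin.sum_univ_two]
    · exact (by simpa [app] using h1)
    · exact (by simpa [app] using h2)
  have hζ : ζ ∉ fixedSub σ := by
    intro hmem
    have hdet : (R.1 - Matrix.scalar (Fin 2) (⟨ζ, hmem⟩ : fixedSub σ)).det = 0 := by
      apply Subtype.ext
      have h := Matrix.exists_mulVec_eq_zero_iff.1 ⟨v, hv,
        show (RL.1 - Matrix.scalar (Fin 2) ζ).mulVec v = 0 by
          rw [Matrix.sub_mulVec, sub_eq_zero, hv']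
          ext i; simp [Matrix.scalar, Matrix.mulVec_diagonal]⟩
      rw [Matrix.det_fin_two] at h ⊢
      simp [hRL, Matrix.scalar] at h ⊢
      exact h
    obtain ⟨v', hv1, hv2⟩ := Matrix.exists_mulVec_eq_zero_iff.2 hdet
    refine noF ⟨ζ, hmem⟩ v' hv1 ?_
    rw [Matrix.sub_mulVec, sub_eq_zero] at hv2
    rw [hv2]
    ext i
    simp [Matrix.scalar, Matrix.mulVec_diagonal]
  have hD1 : tr σ (v 0, v 1) ≠ 0 := by
    intro h0
    by_cases h1 : v 1 = 0
    · refine noPar (v 0) 1 0 (fun h => hv (by funext i; fin_cases i <;> assumption))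
        (by simp [Prod.ext_iff]) ?_
      simp [sc, h1]
    · have hfix : σ (v 0 / v 1) = v 0 / v 1 := by
        have h1' : σ (v 1) ≠ 0 := (map_ne_zero σ).2 h1
        rw [map_div₀, div_eq_div_iff h1' h1]
        unfold tr at h0
        linear_combination h0 - (v 0 * σ (v 1)) * two_L (L := L)
      refine noPar (v 1) ⟨v 0 / v 1, hfix⟩ 1 h1 (by simp [Prod.ext_iff]) ?_
      simp [sc, mul_div_cancel₀ _ h1]
  have hmem1 : tr σ (v 0, v 1) ∈ fixedSub σ := by
    show σ (v 0 * σ (v 1) + σ (v 0) * v 1) = v 0 * σ (v 1) + σ (v 0) * v 1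
    rw [map_add, map_mul, map_mul, hσ.invol, hσ.invol]; ring
  obtain ⟨s, hs⟩ := D.exists_sq (⟨_, hmem1⟩ : fixedSub σ)⁻¹
  have hs' : (s : L) * s = (tr σ (v 0, v 1))⁻¹ := by simpa using congrArg Subtype.val hs
  set e := sc (s : L) (v 0, v 1) with hedef
  have he : tr σ e = 1 := by
    rw [hedef, tr_sc, sigma_coe, hs', inv_mul_cancel₀ hD1]
  have heig : appL R e = sc ζ e := by rw [hedef, appL_sc, heq, sc_sc, sc_sc, mul_comm]
  let E : EData G Ω a t Q L σ := ⟨hσ, D, hN, hC, c, hc, e, he⟩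
  have hζ1 : ζ ≠ 1 := fun h => hζ (h ▸ one_mem _)
  have hζl : ζ ^ l = 1 := by
    have h := appL_pow heig l
    rw [hRl, appL_one] at h
    exact sc_eq_self (ne_zero_of_tr he) h.symm
  have hprim : IsPrimitiveRoot ζ l := by
    have := IsPrimitiveRoot.orderOf ζ
    rwa [orderOf_eq_prime hζl hζ1] at this
  refine ⟨⟨E, w0, hw0, l, hl, hl2, hord, hdvd, ζ, hζ, heig, fun d hd => ?_⟩⟩
  have hx : d * w0 * d⁻¹ ∈ A := hAinv d (fun h hh => Wg_normal D.hS D.h2 hd hh) w0 hw0A
  obtain ⟨μ, hμ⟩ := E.scale_of_commute (hAW hx) hw0 (hAcomm _ hx _ hw0A) heig hζ1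
  have hμl : μ ^ l = 1 := by
    have h := appL_pow hμ l
    rw [← D.rho_pow hN hc (hAW hx), conj_pow, ← hord, pow_orderOf_eq_one, mul_one, mul_inv_cancel,
      D.rho_one, appL_one] at h
    rw [← hord]
    exact sc_eq_self (ne_zero_of_tr he) h.symm
  haveI : NeZero l := ⟨hl.ne_zero⟩
  obtain ⟨i, -, hi⟩ := hprim.eq_pow_of_pow_eq_one hμl
  refine ⟨i, E.rho_inj (hAW hx) (pow_mem hw0 i) (E.ext_e ?_)⟩
  rw [hμ, D.rho_pow hN hc hw0, appL_pow heig, hi]

end CfsgLib.Lie.RankOneClass.Ident
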