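import Cfsg.Agent.Lib.Lie.RankOneClass.Ident.Free
import Mathlib.GroupTheory.Solvable

/-!
Owner: helper20 (slice H). The centraliser `W` of the involutions of `G_a` acts on the complement
of the line as right multiplications of `SL₂(F)`, without fixed points on the line; the centraliser
of `t` in `D` acts on `SL₂(F)` through field automorphisms.
-/

set_option autoImplicit false
set_option linter.all false

namespace CfsgLib.Lie.RankOneClass.Ident

open MulAction CfsgLib.Lie.RankOne Matrix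
open scoped commutatorElement

/-- An odd order subgroup that is not trivial has a nontrivial commutative subgroup invariant under
everything that normalises it. -/
theorem exists_abelian_invariant {G : Type*} [Group G] (H : Subgroup G)
    (hsol : Group.IsSolvable H) (hne : H ≠ ⊥) :
    ∃ A : Subgroup G, A ≤ H ∧ A ≠ ⊥ ∧ (∀ x ∈ A, ∀ y ∈ A, x * y = y * x) ∧
      ∀ d : G, (∀ h ∈ H, d * h * d⁻¹ ∈ H) → ∀ x ∈ A, d * x * d⁻¹ ∈ A := by
  classical
  let A : ℕ → Subgroup G := fun n => (derivedSeries H n).map H.subtype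
  have hsucc : ∀ n, A (n + 1) = ⁅A n, A n⁆ := fun n => by
    show ((derivedSeries H (n + 1)).map H.subtype) = _
    rw [derivedSeries_succ, Subgroup.map_commutator]
  have hzero : A 0 = H := by
    show (derivedSeries H 0).map H.subtype = H
    rw [derivedSeries_zero, ← MonoidHom.range_eq_map, Subgroup.range_subtype]
  have hinv : ∀ d : G, (∀ h ∈ H, d * h * d⁻¹ ∈ H) → ∀ n,
      (A n).map (MulAut.conj d).toMonoidHom ≤ A n := by
    intro d hd n
    induction n with
    | zero =>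
      rw [hzero]
      rintro _ ⟨h, hh, rfl⟩
      exact hd h hh
    | succ n ih => rw [hsucc, Subgroup.map_commutator]; exact Subgroup.commutator_mono ih ih
  have hex : ∃ n, A n = ⊥ := by
    obtain ⟨n, hn⟩ := (Group.isSolvable_def (G := H)).1 hsol
    exact ⟨n, by show (derivedSeries H n).map H.subtype = ⊥; rw [hn, Subgroup.map_bot]⟩
  obtain ⟨m, hm⟩ : ∃ m, Nat.find hex = m + 1 := by
    refine Nat.exists_eq_succ_of_ne_zero fun h0 => hne ?_
    have h := Nat.find_spec hex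
    rwa [h0, hzero] at h
  have hbot : A (m + 1) = ⊥ := by rw [← hm]; exact Nat.find_spec hex
  refine ⟨A m, ?_, fun h => ?_, fun x hx y hy => ?_, fun d hd x hx => ?_⟩
  · exact Subgroup.map_subtype_le _
  · exact Nat.find_min hex (m := m) (by omega) h
  · have h : ⁅x, y⁆ ∈ (⊥ : Subgroup G) := hbot ▸ (hsucc m ▸ Subgroup.commutator_mem_commutator hx hy)
    exact commutatorElement_eq_one_iff_mul_comm.1 (Subgroup.mem_bot.1 h)
  · exact hinv d hd m ⟨x, hx, rfl⟩

variable {G Ω : Type*} [Group G] [MulAction G Ω] {a : Ω} {t : G} {Q : Subgroup G}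
  {F : Type} [Field F] [Fintype F]

local notation "𝔇" => ((stabilizer G a ⊓ stabilizer G (t • a)) : Subgroup G)
local notation "𝔎" => Cfsg.invertedBy (stabilizer G a ⊓ stabilizer G (t • a)) t
local notation "𝔍" => Cfsg.involutionsIn (stabilizer G a : Set G)

namespace LineData

variable [Finite G] [FaithfulSMul G Ω] (D : LineData G Ω a t Q F)

include D

theorem W_z {w : G} (hw : w ∈ Wg a t) (x : F) : w * D.C.z x = D.C.z x * w := by
  by_cases hx : x = 0
  · rw [hx, D.C.z_zero, one_mul, mul_one]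
  · exact (mem_Wg.1 hw).2 _ (D.C.z_mem x hx)

theorem W_t {w : G} (hw : w ∈ Wg a t) : w * t = t * w := (mem_Vg.1 (Wg_le_Vg D.hS hw)).2

theorem W_comm {w g : G} (hw : w ∈ Wg a t) (hg : g ∈ D.lineGroup) : w * g = g * w := by
  refine Subgroup.closure_induction (p := fun g _ => w * g = g * w) ?_ ?_ ?_ ?_ hg
  · rintro y (⟨x, rfl⟩ | rfl)
    · exact D.W_z hw x
    · exact D.W_t hw
  · rw [mul_one, one_mul]
  · exact fun x y _ _ hx hy => (Commute.mul_right hx hy : Commute w (x * y))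
  · exact fun x _ hx => (Commute.inv_right hx : Commute w x⁻¹)

theorem W_fix_line {w : G} (hw : w ∈ Wg a t) {p : Ω} (hp : p ∈ D.line) : w • p = p := by
  obtain ⟨ha, hb⟩ := mem_D.1 (mem_Wg.1 hw).1
  rcases hp with rfl | ⟨x, rfl⟩
  · exact ha
  · rw [← mul_smul, D.W_z hw, mul_smul, hb]

theorem mem_line_of_Q {y : G} (hy : y = 1 ∨ y ∈ 𝔍) : y • (t • a) ∈ D.line := by
  rcases hy with rfl | hy
  · rw [one_smul]; exact D.mem_line_b
  · obtain ⟨x, rfl⟩ := D.C.z_surj y hy
    exact Or.inr ⟨x, rfl⟩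

theorem W_fix (hC : ∀ w ∈ Wg a t, w ≠ 1 → ∀ y ∈ Q, w * y = y * w → y = 1 ∨ y ∈ 𝔍)
    {w : G} (hw : w ∈ Wg a t) (hw1 : w ≠ 1) {p : Ω} (hp : w • p = p) : p ∈ D.line := by
  by_cases hpa : p = a
  · rw [hpa]; exact D.mem_line_a
  · obtain ⟨y, hy, rfl⟩ := exists_smul_eq_ta D.hS hpa
    exact D.mem_line_of_Q (hC w hw hw1 y hy ((fix_smul_iff D.hS (mem_Wg.1 hw).1 hy).1 hp))

theorem W_notMem {w : G} (hw : w ∈ Wg a t) {p : Ω} (hp : p ∉ D.line) : w • p ∉ D.line := fun h => by
  have h1 := D.W_fix_line (inv_mem hw) h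
  rw [inv_smul_smul] at h1
  exact hp (h1 ▸ h)

/-- The matrix of an element of `W`, relative to a base point off the line. -/
noncomputable def rho (hN : Nat.card Q = Fintype.card F ^ 3) {c : Ω} (hc : c ∉ D.line) (w : G) :
    SpecialLinearGroup (Fin 2) F :=
  haveI := Classical.propDecidable (w • c ∉ D.line)
  if h : w • c ∉ D.line then (D.regular hN hc h).choose else 1

variable (hN : Nat.card Q = Fintype.card F ^ 3) {c : Ω} (hc : c ∉ D.line)

theorem rho_spec {w : G} (hw : w ∈ Wg a t) : D.hom (D.rho hN hc w) • c = w • c := by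
  rw [rho, dif_pos (D.W_notMem hw hc)]
  exact (D.regular hN hc (D.W_notMem hw hc)).choose_spec.1

include hN hc in
theorem hom_c_inj {M N : SpecialLinearGroup (Fin 2) F} (h : D.hom M • c = D.hom N • c) : M = N :=
  ((D.regular hN hc (D.notMem_smul (D.hom_mem N) hc)).unique h rfl)

theorem W_smul {w : G} (hw : w ∈ Wg a t) (M : SpecialLinearGroup (Fin 2) F) :
    w • (D.hom M • c) = D.hom (M * D.rho hN hc w) • c := by
  rw [← mul_smul, D.W_comm hw (D.hom_mem M), mul_smul, ← D.rho_spec hN hc hw, map_mul, mul_smul]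

theorem rho_mul {w w' : G} (hw : w ∈ Wg a t) (hw' : w' ∈ Wg a t) :
    D.rho hN hc (w * w') = D.rho hN hc w' * D.rho hN hc w := by
  refine D.hom_c_inj hN hc ?_
  rw [D.rho_spec hN hc (mul_mem hw hw'), mul_smul, ← D.rho_spec hN hc hw', D.W_smul hN hc hw]

theorem rho_one : D.rho hN hc 1 = 1 :=
  D.hom_c_inj hN hc (by rw [D.rho_spec hN hc (one_mem _), map_one])

theorem rho_pow {w : G} (hw : w ∈ Wg a t) (n : ℕ) : D.rho hN hc (w ^ n) = D.rho hN hc w ^ n := by
  induction n with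
  | zero => rw [pow_zero, pow_zero, D.rho_one]
  | succ n ih => rw [pow_succ, pow_succ', D.rho_mul hN hc (pow_mem hw n) hw, ih]

theorem k_mem_lineGroup (l : F) : D.k l ∈ D.lineGroup := by
  obtain ⟨m, rfl⟩ := D.exists_sq l
  exact D.k_sq_mem_lineGroup m

theorem rho_no_line (hC : ∀ w ∈ Wg a t, w ≠ 1 → ∀ y ∈ Q, w * y = y * w → y = 1 ∨ y ∈ 𝔍)
    {w : G} (hw : w ∈ Wg a t) (hw1 : w ≠ 1) {v : F × F} (hv : v ≠ 0) :
    D.ptv (app (D.rho hN hc w) v) ≠ D.ptv v := by
  intro he
  obtain ⟨N, hN'⟩ := D.exists_upper _ hv he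
  set P := N⁻¹ * D.rho hN hc w * N with hP
  set c' := D.hom N⁻¹ • c with hc'
  have hc'n : c' ∉ D.line := D.notMem_smul (D.hom_mem _) hc
  have hwc : w • c' = D.hom P • c' := by
    rw [hc', D.W_smul hN hc hw, ← mul_smul, ← map_mul, hP]
    congr 2
    group
  obtain ⟨h0, hM⟩ := D.hom₀_of_upper hN'
  rw [hM] at hwc
  set x := P 0 0 * P 0 1 with hx
  set l := P 0 0 * P 0 0 with hl
  have hl0 : l ≠ 0 := mul_ne_zero h0 h0
  have hodd : Odd (orderOf w) := D_odd D.hS (mem_Wg.1 hw).1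
  by_cases hl1 : l = 1
  · rw [hl1, D.k_one, mul_one] at hwc
    have h2 : (w * w) • c' = c' := by
      rw [mul_smul, hwc, ← mul_smul, D.W_z hw, mul_smul, hwc, ← mul_smul, D.z_self, one_smul]
    refine hc'n (D.W_fix hC (mul_mem hw hw) (fun e => hw1 ?_) h2)
    exact D_eq_one D.hS (mem_Wg.1 hw).1 e
  · set s := D.C.z (x / (1 + l)) with hs
    set c'' := s • c' with hc''
    have hc''n : c'' ∉ D.line := D.notMem_smul (D.z_mem_lineGroup _) hc'n
    have hss : s * s = 1 := D.z_self _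
    have hwc' : w • c'' = D.k l • c'' := by
      have e1 : s * (D.C.z x * D.k l) * s = D.k l := D.conj_z hl0 hl1
      have e2 : D.k l * s = s * (D.C.z x * D.k l) := by
        calc D.k l * s = s * (D.C.z x * D.k l) * (s * s) := by
              conv_lhs => rw [← e1]
              group
          _ = _ := by rw [hss, mul_one]
      rw [hc'', ← mul_smul, D.W_z hw, mul_smul, hwc, ← mul_smul, ← mul_smul, ← e2]
      simp only [hc', mul_smul]
    set d := w⁻¹ * D.k l with hd
    have hdD : d ∈ 𝔇 := mul_mem (inv_mem (mem_Wg.1 hw).1) (D.k_mem_D l)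
    have hdc : d • c'' = c'' := by rw [hd, mul_smul, ← hwc', inv_smul_smul]
    obtain ⟨e, heD, hecomm⟩ := conj_into D.hS (X := {d}) (by simpa using hdD)
      ⟨c'', (D.third_of_notMem hc''n).1, (D.third_of_notMem hc''n).2, by simpa using hdc⟩
    have het := hecomm d (Set.mem_singleton d)
    have hvD : e * d * e⁻¹ ∈ 𝔇 := mul_mem (mul_mem heD hdD) (inv_mem heD)
    have hvV : e * d * e⁻¹ ∈ Vg a t := mem_Vg.2 ⟨hvD, het⟩
    have hwV := Wg_le_Vg D.hS (inv_mem hw)
    have hkK := D.k_mem hl0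
    let se : ↥(stabilizer G a) := ⟨e, (Subgroup.mem_inf.1 heD).1⟩
    let sd : ↥(stabilizer G a) := ⟨d, (Subgroup.mem_inf.1 hdD).1⟩
    have hautd : D.C.aut sd = 1 := by
      have h1 := D.C.aut_split D.hS hwV hkK
      have h2 := (D.C.aut_Vg_eq_one D.hS hwV).2 (inv_mem hw)
      exact h1.trans h2
    have hautv : D.C.aut (se * sd * se⁻¹) = 1 := by
      rw [map_mul, map_mul, hautd, mul_one, ← map_mul, mul_inv_cancel, map_one]
    have hvW : e * d * e⁻¹ ∈ Wg a t := (D.C.aut_Vg_eq_one D.hS hvV).1 hautv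
    have hdW : d ∈ Wg a t := by
      have := Wg_normal D.hS D.h2 (inv_mem heD) hvW
      simpa [mul_assoc] using this
    have hkW : D.k l ∈ Wg a t := by
      have := mul_mem hw hdW
      rwa [hd, mul_inv_cancel_left] at this
    exact hl1 (D.k_eq_one hl0 (eq_one_of_Vg_K D.hS (Wg_le_Vg D.hS hkW) hkK))

/-- The automorphism of `F` of an element of the centraliser of `t` in `D`. -/
noncomputable def autV (v : Vg (a := a) t) : F ≃+* F :=
  D.C.aut ⟨(v : G), (Subgroup.mem_inf.1 (mem_Vg.1 v.2).1).1⟩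

theorem Vg_z (v : Vg (a := a) t) (x : F) :
    (v : G) * D.C.z x * (v : G)⁻¹ = D.C.z (D.autV v x) := D.C.conj_Vg D.hS v.2 x

theorem Vg_t (v : Vg (a := a) t) : (v : G) * t * (v : G)⁻¹ = t := by
  rw [mul_inv_eq_iff_eq_mul]
  exact (mem_Vg.1 v.2).2

theorem Vg_k (v : Vg (a := a) t) (x : F) :
    (v : G) * D.k (x * x) * (v : G)⁻¹ = D.k (D.autV v x * D.autV v x) := by
  by_cases hx : x = 0
  · rw [hx, map_zero, mul_zero, k, dif_pos rfl, mul_one, mul_inv_cancel]
  · have hy : D.autV v x ≠ 0 := (map_ne_zero _).2 hx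
    have e := congrArg (MulAut.conj (v : G)) (D.t_z_t hx)
    simp only [map_mul, MulAut.conj_apply, D.Vg_z, D.Vg_t, map_inv₀] at e
    rw [D.t_z_t hy] at e
    exact (mul_left_cancel e).symm

theorem Vg_hom (v : Vg (a := a) t) (M : SpecialLinearGroup (Fin 2) F) :
    (v : G) * D.hom M * (v : G)⁻¹ =
      D.hom (SpecialLinearGroup.map (D.autV v : F →+* F) M) := by
  have e : ∀ i j, SpecialLinearGroup.map (D.autV v : F →+* F) M i j = D.autV v (M i j) :=
    fun i j => rfl
  show MulAut.conj (v : G) (D.hom M) = _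
  rw [hom_apply, hom_apply]
  by_cases h : M 1 0 = 0
  · have h' : SpecialLinearGroup.map (D.autV v : F →+* F) M 1 0 = 0 := by rw [e, h, map_zero]
    rw [hom₀, hom₀, if_pos h, if_pos h']
    simp only [map_mul, MulAut.conj_apply, D.Vg_z, D.Vg_k, e]
  · have h' : SpecialLinearGroup.map (D.autV v : F →+* F) M 1 0 ≠ 0 := by
      rw [e]; exact (map_ne_zero _).2 h
    rw [hom₀, hom₀, if_neg h, if_neg h']
    simp only [map_mul, map_div₀, MulAut.conj_apply, D.Vg_z, D.Vg_k, D.Vg_t, e]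

theorem Vg_smul_line (v : Vg (a := a) t) (x : F) :
    (v : G) • (D.C.z x • (t • a)) = D.C.z (D.autV v x) • (t • a) := by
  rw [← D.Vg_z v x, mul_smul, mul_smul]
  congr 2
  exact (inv_smul_eq_iff.2 (mem_D.1 (mem_Vg.1 v.2).1).2.symm).symm

theorem Vg_ptv (v : Vg (a := a) t) (w : F × F) :
    (v : G) • D.ptv w = D.ptv (D.autV v w.1, D.autV v w.2) := by
  by_cases h : w.2 = 0
  · rw [D.ptv_zero h, D.ptv_zero (by simp [h])]
    exact (mem_D.1 (mem_Vg.1 v.2).1).1
  · rw [D.ptv_ne h, D.ptv_ne (w := (D.autV v w.1, D.autV v w.2)) ((map_ne_zero _).2 h),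
      D.Vg_smul_line, map_div₀]

theorem D_line {d : G} (hd : d ∈ 𝔇) {p : Ω} (hp : p ∈ D.line) : d • p ∈ D.line := by
  obtain ⟨ha, hb⟩ := mem_D.1 hd
  rcases hp with rfl | ⟨x, rfl⟩
  · rw [ha]; exact D.mem_line_a
  · obtain ⟨m, hm⟩ := D.C.aut_conj ⟨d, (Subgroup.mem_inf.1 hd).1⟩
    refine Or.inr ⟨(m : F) * D.C.aut ⟨d, (Subgroup.mem_inf.1 hd).1⟩ x, ?_⟩
    rw [← hm x, mul_smul, mul_smul, inv_smul_eq_iff.2 hb.symm]

end LineData

end CfsgLib.Lie.RankOneClass.Ident
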